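import Cfsg.Agent.Lib.Linear.SUThree.Model
import Cfsg.Agent.Lib.Linear.UnitaryGen

/-!
# Generating a unitary group from a regular unipotent element and transvections
-/

set_option autoImplicit false

namespace Cfsg.Lib.Linear.SUThree

open Module

variable {F V : Type*} [Field F] [AddCommGroup V] [Module F V] {σ : F →+* F} {B : V →ₛₗ[σ] V →ₗ[F] F}

/-- An isotropic vector all whose transvections lie in `P`. -/
def Good (B : V →ₛₗ[σ] V →ₗ[F] F) (P : Subgroup (V ≃ₗ[F] V)) (z : V) : Prop :=
  B z z = 0 ∧ ∀ (c : F) (h : c + σ c + σ c * c * B z z = 0), Herm.qrefl z c h ∈ P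

theorem tr_of_cond {z : V} (hz : B z z = 0) {c : F} (h : c + σ c + σ c * c * B z z = 0) : c + σ c = 0 := by
  rwa [hz, mul_zero, add_zero] at h

theorem cond_of_tr {z : V} (hz : B z z = 0) {c : F} (h : c + σ c = 0) : c + σ c + σ c * c * B z z = 0 := by
  rw [hz, mul_zero, add_zero, h]

theorem qrefl_map {g : V ≃ₗ[F] V} (hg : g ∈ Herm.iso B) {z : V} {c : F} (h : c + σ c + σ c * c * B z z = 0)
    (h' : c + σ c + σ c * c * B (g z) (g z) = 0) : g * Herm.qrefl z c h * g⁻¹ = Herm.qrefl (g z) c h' := by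
  refine LinearEquiv.ext fun x => ?_
  have hx : g (g⁻¹ x) = x := by rw [← LinearEquiv.mul_apply, mul_inv_cancel]; rfl
  rw [LinearEquiv.mul_apply, LinearEquiv.mul_apply, Herm.qrefl_apply, Herm.qrefl_apply, map_add, map_smul, hx,
    ← hg z (g⁻¹ x), hx]

theorem good_smul {P : Subgroup (V ≃ₗ[F] V)} (hσ2 : ∀ a, σ (σ a) = a) {z : V} (hz : Good B P z) (a : F) :
    Good B P (a • z) := by
  refine ⟨by simp [hz.1], fun c h => ?_⟩
  have h' : c * (σ a * a) + σ (c * (σ a * a)) + σ (c * (σ a * a)) * (c * (σ a * a)) * B z z = 0 := by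
    refine cond_of_tr hz.1 ?_
    have := tr_of_cond (by simp [hz.1]) h
    simp only [map_mul, hσ2]
    linear_combination (σ a * a) * this
  have e : Herm.qrefl (a • z) c h = Herm.qrefl z (c * (σ a * a)) h' := by
    refine LinearEquiv.ext fun x => ?_
    simp only [Herm.qrefl_apply, LinearMap.map_smulₛₗ, LinearMap.smul_apply, smul_eq_mul, smul_smul]
    congr 2
    ring
  rw [e]
  exact hz.2 _ h'

theorem good_map {P : Subgroup (V ≃ₗ[F] V)} (hP : P ≤ Herm.iso B) {g : V ≃ₗ[F] V} (hg : g ∈ P)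
    {z : V} (hz : Good B P z) : Good B P (g z) := by
  refine ⟨by rw [hP hg z z, hz.1], fun c h => ?_⟩
  have h' : c + σ c + σ c * c * B z z = 0 := by rwa [hP hg z z] at h
  rw [← qrefl_map (hP hg) h' h]
  exact P.mul_mem (P.mul_mem hg (hz.2 c h')) (P.inv_mem hg)

theorem good_plane {P : Subgroup (V ≃ₗ[F] V)} (hP : P ≤ Herm.iso B) (hσ2 : ∀ a, σ (σ a) = a) (hS : B.IsSymm)
    {a b : V} (ha : Good B P a) (hb : Good B P b) (hab : B b a ≠ 0) {s t : F}
    (hiso : B (s • a + t • b) (s • a + t • b) = 0) : Good B P (s • a + t • b) := by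
  rcases eq_or_ne s 0 with rfl | hs
  · simpa using good_smul hσ2 hb t
  have hσab : σ (B b a) = B a b := hS.eq b a
  have hiso' : σ s * t * B a b + σ t * s * B b a = 0 := by
    simp only [map_add, LinearMap.map_smulₛₗ, LinearMap.add_apply, LinearMap.smul_apply, smul_eq_mul, map_smul, ha.1,
      hb.1, RingHom.id_apply] at hiso
    linear_combination hiso
  have hc : t / (s * B b a) + σ (t / (s * B b a)) = 0 := by
    rw [map_div₀, map_mul, hσab]
    have h1 : σ s ≠ 0 := (map_ne_zero σ).2 hs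
    have h2 : B a b ≠ 0 := by rw [← hσab]; exact (map_ne_zero σ).2 hab
    field_simp
    linear_combination hiso'
  have key : s • a + t • b = s • (Herm.qrefl b (t / (s * B b a)) (cond_of_tr hb.1 hc) a) := by
    rw [Herm.qrefl_apply, smul_add, smul_smul]
    congr 2
    field_simp
  rw [key]
  exact good_smul hσ2 (good_map hP (hb.2 _ _) ha) s

namespace HModel

variable {m : ℕ} {α : F} (Q : HModel m α B) {P : Subgroup (V ≃ₗ[F] V)}

/-- The isotropic translate along the fixed line. -/
def lift (v : V) : V := v - (α * B v v) • Q.eps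

/-- The class of `v` modulo the fixed line contains good vectors. -/
def Gd (P : Subgroup (V ≃ₗ[F] V)) (v : V) : Prop := B Q.eps v = 1 ∧ Good B P (Q.lift v)

theorem B_eps_lift (v : V) : B Q.eps (Q.lift v) = B Q.eps v := by
  simp [lift, Q.B_eps_eps]

theorem lift_iso {v : V} (hv : B Q.eps v = 1) : B (Q.lift v) (Q.lift v) = 0 := by
  have h1 : B v Q.eps = 1 := by rw [← Q.symm, hv, map_one]
  simp only [lift, map_sub, LinearMap.map_smulₛₗ, LinearMap.sub_apply, LinearMap.smul_apply, smul_eq_mul, map_smul,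
    map_mul, Q.B_eps_eps, Q.symm v v, hv, h1, RingHom.id_apply]
  linear_combination (-(B v v)) * Q.trα

theorem good_of_gd (hP : P ≤ Herm.iso B) (hε : Good B P Q.eps) {v p : V} (hv : Q.Gd P v) (hp : B p p = 0) {k : F}
    (hk : p = v + k • Q.eps) : Good B P p := by
  have e : p = (1 : F) • Q.lift v + (k + α * B v v) • Q.eps := by rw [hk, lift]; module
  rw [e] at hp ⊢
  exact good_plane hP Q.hσ2 Q.hS hv.2 hε (by rw [Q.B_eps_lift, hv.1]; exact one_ne_zero) hp

theorem gd_of_good (hP : P ≤ Herm.iso B) (hε : Good B P Q.eps) {v p : V} (hp : Good B P p) (hpe : B Q.eps p = 1)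
    {k : F} (hk : v = p + k • Q.eps) : Q.Gd P v := by
  have hv : B Q.eps v = 1 := by rw [hk]; simp [hpe, Q.B_eps_eps]
  refine ⟨hv, ?_⟩
  have e : Q.lift v = (1 : F) • p + (k - α * B v v) • Q.eps := by
    rw [lift]
    nth_rw 1 [hk]
    module
  have h0 := Q.lift_iso hv
  rw [e] at h0 ⊢
  exact good_plane hP Q.hσ2 Q.hS hp hε (by rw [hpe]; exact one_ne_zero) h0

theorem gd_shift (hP : P ≤ Herm.iso B) (hε : Good B P Q.eps) {v : V} (hv : Q.Gd P v) (k : F) :
    Q.Gd P (v + k • Q.eps) := by
  refine Q.gd_of_good hP hε hv.2 (by rw [Q.B_eps_lift, hv.1]) (k := α * B v v + k) ?_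
  rw [lift]
  module

theorem gd_map (hP : P ≤ Herm.iso B) (hε : Good B P Q.eps) {g : V ≃ₗ[F] V} (hg : g ∈ P) (hge : g Q.eps = Q.eps)
    {v : V} (hv : Q.Gd P v) : Q.Gd P (g v) := by
  refine Q.gd_of_good hP hε (good_map hP hg hv.2) ?_ (k := α * B v v) ?_
  · conv_lhs => rw [← hge]
    rw [hP hg, Q.B_eps_lift, hv.1]
  · rw [lift, map_sub, map_smul, hge, sub_add_cancel]

theorem rule_aux (hP : P ≤ Herm.iso B) (hε : Good B P Q.eps) {z z' : V} (hz : Good B P z) (hze : B Q.eps z = 1)
    (hz' : Good B P z') (hze' : B Q.eps z' = 1) (s k : F) (hk : k + σ k = 0) (hne : B z z' + k ≠ 0)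
    (hiso : (1 - σ s) * s * (B z z' + k) + σ ((1 - σ s) * s * (B z z' + k)) = 0) :
    Q.Gd P ((1 - s) • z + s • z') := by
  have hze2 : B z Q.eps = 1 := by rw [← Q.symm, hze, map_one]
  have hze2' : B z' Q.eps = 1 := by rw [← Q.symm, hze', map_one]
  have h'' : Good B P (z' + k • Q.eps) := by
    have hi : B ((1 : F) • z' + k • Q.eps) ((1 : F) • z' + k • Q.eps) = 0 := by
      simp [hz'.1, hze', hze2', Q.B_eps_eps, hk]
    simpa using good_plane hP Q.hσ2 Q.hS hz' hε (by rw [hze']; exact one_ne_zero) hi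
  set p := (1 - s) • z + s • (z' + k • Q.eps) with hp
  have h1 : B z (z' + k • Q.eps) = B z z' + k := by simp [hze2]
  have h2 : B (z' + k • Q.eps) z = σ (B z z' + k) := by rw [← h1, Q.symm]
  have hi : B p p = 0 := by
    rw [hp]
    simp only [map_add, LinearMap.map_smulₛₗ, LinearMap.add_apply, LinearMap.smul_apply, smul_eq_mul, hz.1,
      RingHom.id_apply]
    have h3 := h''.1
    simp only [map_add, LinearMap.map_smulₛₗ, LinearMap.add_apply, LinearMap.smul_apply, smul_eq_mul,
      map_smul, RingHom.id_apply] at h3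
    have h4 : σ ((1 - σ s) * s * (B z z' + k)) = (1 - s) * σ s * σ (B z z' + k) := by
      rw [map_mul, map_mul, map_sub, map_one, Q.hσ2]
    rw [h4] at hiso
    simp only [map_sub, map_one, map_add, Q.symm z z'] at hiso ⊢
    linear_combination hiso + σ s * s * h3 + (σ k * σ s * (1 - s)) * hze + (k * (1 - σ s) * s) * hze2
  have hp' : Good B P p := good_plane hP Q.hσ2 Q.hS hz h'' (by rw [h2]; exact (map_ne_zero σ).2 hne) hi
  refine Q.gd_of_good hP hε hp' ?_ (k := -(s * k)) ?_
  · rw [hp]; simp [hze, hze', Q.B_eps_eps]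
  · rw [hp]; module

/-- The lines that stay inside the good classes. -/
theorem rule (hP : P ≤ Herm.iso B) (hε : Good B P Q.eps) {v v' : V} (hv : Q.Gd P v) (hv' : Q.Gd P v') (s : F)
    (h : B (v' - v) (v' - v) ≠ 0 ∨ σ s = s) : Q.Gd P ((1 - s) • v + s • v') := by
  set z := Q.lift v with hzdef
  set z' := Q.lift v' with hzdef'
  have hze : B Q.eps z = 1 := by rw [Q.B_eps_lift, hv.1]
  have hze' : B Q.eps z' = 1 := by rw [Q.B_eps_lift, hv'.1]
  have back : ∀ t : F, Q.Gd P ((1 - t) • z + t • z') → Q.Gd P ((1 - t) • v + t • v') := fun t ht => by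
    have := Q.gd_shift hP hε ht ((1 - t) * (α * B v v) + t * (α * B v' v'))
    convert this using 1
    rw [hzdef, hzdef', lift, lift]
    module
  have hd : B z z' + σ (B z z') = -B (v' - v) (v' - v) := by
    have e : v' - v = z' - z + (α * B v' v' - α * B v v) • Q.eps := by rw [hzdef, hzdef', lift, lift]; module
    have h0 : B Q.eps (z' - z) = 0 := by rw [map_sub, hze, hze', sub_self]
    have h0' : B (z' - z) Q.eps = 0 := by rw [← Q.symm, h0, map_zero]
    rw [e]
    generalize (α * B v' v' - α * B v v) = c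
    simp only [map_add, LinearMap.map_smulₛₗ, LinearMap.add_apply, LinearMap.smul_apply, smul_eq_mul, map_smul, h0, h0',
      Q.B_eps_eps, RingHom.id_apply]
    simp only [map_sub, LinearMap.sub_apply, hv.2.1, hv'.2.1, ← hzdef, ← hzdef', Q.symm z z']
    have hz0 : B z z = 0 := hv.2.1
    have hz0' : B z' z' = 0 := hv'.2.1
    rw [hz0, hz0']
    ring
  by_cases hdd : B (v' - v) (v' - v) = 0
  · have hs : σ s = s := h.resolve_left (fun h' => h' hdd)
    rw [hdd, neg_zero] at hd
    refine back s ?_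
    have hw : σ ((1 - σ s) * s) = (1 - σ s) * s := by rw [map_mul, map_sub, map_one, Q.hσ2, hs]
    by_cases h0 : B z z' = 0
    · obtain ⟨δ, hδ0, hδ⟩ := Herm.exists_trace_zero Q.hσ Q.hσ2
      refine Q.rule_aux hP hε hv.2 hze hv'.2 hze' s δ hδ (by rw [h0, zero_add]; exact hδ0) ?_
      rw [map_mul σ _ (B z z' + δ), hw, map_add]
      linear_combination ((1 - σ s) * s) * hd + ((1 - σ s) * s) * hδ
    · refine Q.rule_aux hP hε hv.2 hze hv'.2 hze' s 0 (by simp) (by simpa using h0) ?_
      rw [map_mul σ _ (B z z' + 0), hw, add_zero]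
      linear_combination ((1 - σ s) * s) * hd
  have nonreal : ∀ w₁ w₂ : V, Good B P w₁ → B Q.eps w₁ = 1 → Good B P w₂ → B Q.eps w₂ = 1 →
      B w₁ w₂ + σ (B w₁ w₂) ≠ 0 → ∀ t : F, σ t ≠ t → Q.Gd P ((1 - t) • w₁ + t • w₂) := by
    intro w₁ w₂ g1 e1 g2 e2 htr t ht
    set h₀ := B w₁ w₂
    set w := (1 - σ t) * t with hw
    have hww : w - σ w = t - σ t := by rw [hw, map_mul, map_sub, map_one, Q.hσ2]; ring
    have hne : w - σ w ≠ 0 := by rw [hww]; exact sub_ne_zero.2 (Ne.symm ht)
    set k := -(w * h₀ + σ w * σ h₀) / (w - σ w) with hkdef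
    have hkw : k * (w - σ w) = -(w * h₀ + σ w * σ h₀) := div_mul_cancel₀ _ hne
    have aux : ∀ W H : F, W - σ W ≠ 0 →
        -(W * H + σ W * σ H) / (W - σ W) + σ (-(W * H + σ W * σ H) / (W - σ W)) = 0 := by
      intro W H hne
      rw [map_div₀, map_neg, map_add, map_mul, map_mul, map_sub, Q.hσ2, Q.hσ2]
      have hne' : σ W - W ≠ 0 := fun h => hne (by linear_combination -h)
      field_simp
      ring
    have hk : k + σ k = 0 := aux w h₀ hne
    refine Q.rule_aux hP hε g1 e1 g2 e2 t k hk (fun h0 => htr ?_) ?_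
    · have e : h₀ = -k := by linear_combination h0
      rw [e, map_neg]
      linear_combination -hk
    · rw [← hw, map_mul, map_add]
      linear_combination hkw + σ w * hk
  have htr : B z z' + σ (B z z') ≠ 0 := by rw [hd]; exact neg_ne_zero.2 hdd
  by_cases hs : σ s = s
  · rcases eq_or_ne s 0 with rfl | hs0
    · simpa using hv
    obtain ⟨r, hr⟩ : ∃ r, σ r ≠ r := by
      by_contra hc
      push_neg at hc
      exact Q.hσ (RingHom.ext hc)
    have hr0 : r ≠ 0 := fun h => hr (by rw [h, map_zero])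
    have h1 : Q.Gd P ((1 - r) • z + r • z') := nonreal z z' hv.2 hze hv'.2 hze' htr r hr
    set q := (1 - r) • z + r • z' with hq
    refine back s ?_
    have htr2 : B z (Q.lift q) + σ (B z (Q.lift q)) ≠ 0 := by
      have e : B z (Q.lift q) = r * B z z' - α * B q q := by
        have hzz : B z z = 0 := hv.2.1
        rw [lift, hq]
        simp only [map_sub, map_add, map_smul, smul_eq_mul, hzz, show B z Q.eps = 1 by rw [← Q.symm, hze, map_one]]
        ring
      have eq : B q q = (1 - σ r) * r * B z z' + (1 - r) * σ r * σ (B z z') := by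
        rw [hq]
        simp only [map_add, LinearMap.map_smulₛₗ, LinearMap.add_apply, LinearMap.smul_apply, smul_eq_mul, map_smul,
          map_sub, map_one, hv.2.1, hv'.2.1, ← hzdef, ← hzdef', Q.symm z z', RingHom.id_apply,
          show B z z = 0 from hv.2.1, show B z' z' = 0 from hv'.2.1]
        ring
      rw [e, map_sub, map_mul, map_mul, Q.symm q q, eq]
      intro h0
      have : r * σ r * (B z z' + σ (B z z')) = 0 := by
        linear_combination h0 + ((1 - σ r) * r * B z z' + (1 - r) * σ r * σ (B z z')) * Q.trα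
      rcases mul_eq_zero.1 this with h' | h'
      · exact mul_ne_zero hr0 ((map_ne_zero σ).2 hr0) h'
      · exact htr h'
    have hsr : σ (s / r) ≠ s / r := by
      rw [map_div₀, hs]
      intro h'
      rw [div_eq_div_iff ((map_ne_zero σ).2 hr0) hr0] at h'
      exact hr (mul_left_cancel₀ hs0 h').symm
    have h2 := nonreal z (Q.lift q) hv.2 hze h1.2 (by rw [Q.B_eps_lift, h1.1]) htr2 (s / r) hsr
    have h3 := Q.gd_shift hP hε h2 (s / r * (α * B q q))
    convert h3 using 1
    rw [lift, hq]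
    match_scalars <;> field_simp <;> ring
  · exact back s (nonreal z z' hv.2 hze hv'.2 hze' htr s hs)

theorem range_N_le (S : Submodule F V) (hS : ∀ d ∈ S, Q.N d ∈ S) {f : V} (hf : B Q.eps f ≠ 0) (hfS : Q.N f ∈ S)
    {z : V} (hz : B Q.eps z = 0) : z ∈ S := by
  obtain ⟨f', hf'⟩ := Q.decomp f
  have hpow : ∀ d ∈ S, ∀ k, (Q.N ^ k) d ∈ S := fun d hd k => by
    induction k with
    | zero => exact hd
    | succ k ih => rw [pow_succ', Module.End.mul_apply]; exact hS _ ih
  have key : ∀ j k, 1 ≤ k → 2 * m + 1 ≤ k + j → ∀ v, (Q.N ^ k) v ∈ S := by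
    intro j
    induction j with
    | zero =>
      intro k _ hk v
      rw [Q.N_pow (k := k) (by omega), LinearMap.zero_apply]
      exact S.zero_mem
    | succ j ih =>
      intro k hk hkj v
      have hE : Q.E k ∈ S := by
        have h1 : (Q.N ^ k) f = B Q.eps f • Q.E k + (Q.N ^ (k + 1)) f' := by
          nth_rw 1 [hf']
          rw [map_add, map_smul, ← Module.End.mul_apply (Q.N ^ k) Q.N, ← pow_succ]
          rfl
        have h2 : (Q.N ^ k) f ∈ S := by
          obtain ⟨i, rfl⟩ := Nat.exists_eq_add_of_le hk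
          rw [show 1 + i = i + 1 by omega, pow_succ, Module.End.mul_apply]
          exact hpow _ hfS i
        have h3 : B Q.eps f • Q.E k ∈ S := by
          rw [show B Q.eps f • Q.E k = (Q.N ^ k) f - (Q.N ^ (k + 1)) f' by rw [h1, add_sub_cancel_right]]
          exact S.sub_mem h2 (ih (k + 1) (by omega) (by omega) _)
        exact (S.smul_mem_iff hf).1 h3
      obtain ⟨y, hy⟩ := Q.decomp v
      rw [hy, map_add, map_smul, ← Module.End.mul_apply (Q.N ^ k) Q.N, ← pow_succ]
      exact S.add_mem (S.smul_mem _ hE) (ih (k + 1) (by omega) (by omega) _)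
  obtain ⟨y, hy⟩ := Q.decomp z
  rw [hy, hz, zero_smul, zero_add, ← pow_one Q.N]
  exact key (2 * m + 1) 1 le_rfl (by omega) _

theorem top_of_all (hP : P ≤ Herm.iso B) (hε : Good B P Q.eps) (hall : ∀ v, B Q.eps v = 1 → Q.Gd P v) :
    Herm.tvGroup B ≤ P := by
  have hM : ∀ p, B p p = 0 → B Q.eps p = 1 → Good B P p := fun p hp hpe =>
    Q.good_of_gd hP hε (hall p hpe) hp (k := 0) (by simp)
  have hg : ∀ z, B z z = 0 → Good B P z := by
    intro z hz
    by_cases hω : B Q.eps z = 0
    · by_cases hzε : ∃ c : F, z = c • Q.eps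
      · obtain ⟨c, rfl⟩ := hzε; exact good_smul Q.hσ2 hε c
      have hz0 : z ≠ 0 := fun h => hzε ⟨0, by simp [h]⟩
      obtain ⟨a₁, ha₁⟩ : ∃ a, B z a ≠ 0 := by
        by_contra hc
        push_neg at hc
        exact hz0 (Q.hB.1 z hc)
      obtain ⟨a, hae, haz⟩ : ∃ a, B Q.eps a ≠ 0 ∧ B z a ≠ 0 := by
        by_cases h1 : B Q.eps a₁ = 0
        · by_cases h2 : B z Q.e = 0
          · exact ⟨a₁ + Q.e, by simp [h1, Q.B_eps_e], by simp [h2, ha₁]⟩
          · exact ⟨Q.e, by rw [Q.B_eps_e]; exact one_ne_zero, h2⟩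
        · exact ⟨a₁, h1, ha₁⟩
      set a' := Q.lift ((B Q.eps a)⁻¹ • a) with ha'
      have hae' : B Q.eps ((B Q.eps a)⁻¹ • a) = 1 := by simp [hae]
      have he : B Q.eps a' = 1 := by rw [ha', Q.B_eps_lift, hae']
      have hzε' : B z Q.eps = 0 := by rw [← Q.symm, hω, map_zero]
      have hza : B z a' ≠ 0 := by
        rw [ha', lift]
        simp [hzε', hae, haz]
      obtain ⟨δ, hδ0, hδ⟩ := Herm.exists_trace_zero Q.hσ Q.hσ2
      set t := δ * B z a'
      have hi : B (a' + t • z) (a' + t • z) = 0 := by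
        have := Herm.qrefl_mem_iso Q.hS z δ (cond_of_tr hz hδ) a' a'
        rw [Herm.qrefl_apply] at this
        rw [this, Q.lift_iso hae']
      have hG : Good B P (a' + t • z) := hM _ hi (by simp [he, hω])
      have hG' : Good B P a' := hM _ (Q.lift_iso hae') he
      have ht : t ≠ 0 := mul_ne_zero hδ0 hza
      have e : z = (-t⁻¹) • a' + t⁻¹ • (a' + t • z) := by
        match_scalars <;> field_simp <;> ring
      rw [e]
      refine good_plane hP Q.hσ2 Q.hS hG' hG ?_ (by rw [← e]; exact hz)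
      simp only [map_add, LinearMap.map_smulₛₗ, LinearMap.add_apply, LinearMap.smul_apply, smul_eq_mul,
        Q.lift_iso hae', hG'.1, zero_add]
      exact mul_ne_zero ((map_ne_zero σ).2 ht) hza
    · have h := good_smul Q.hσ2 (hM ((B Q.eps z)⁻¹ • z) (by simp [hz]) (by simp [hω])) (B Q.eps z)
      rwa [smul_smul, mul_inv_cancel₀ hω, one_smul] at h
  rw [Herm.tvGroup, Subgroup.closure_le]
  rintro _ ⟨w, l, h, hw, rfl⟩
  exact (hg w hw).2 l h

/-- At least three fixed scalars: the transvections at `ε` and one non-orthogonal centre give everything. -/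
theorem top_of_eps (hP : P ≤ Herm.iso B) (hu : Q.u ∈ P) (hε : Good B P Q.eps) {s : F} (hs : σ s = s)
    (hs0 : s ≠ 0) (hs1 : s ≠ 1) {f : V} (hf : Good B P f) (hfe : B Q.eps f ≠ 0) : Herm.tvGroup B ≤ P := by
  set f₀ := (B Q.eps f)⁻¹ • f with hf₀
  have h01 : B Q.eps f₀ = 1 := by simp [hf₀, hfe]
  have h0 : Q.Gd P f₀ := Q.gd_of_good hP hε (good_smul Q.hσ2 hf _) h01 (k := 0) (by simp [hf₀])
  let InD : V → Prop := fun d => B Q.eps d = 0 ∧ Q.Gd P (f₀ + d)
  have hreal : ∀ t, σ t = t → ∀ d, InD d → InD (t • d) := fun t ht d hd => ⟨by simp [hd.1], by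
    have := Q.rule hP hε h0 hd.2 t (Or.inr ht)
    convert this using 1
    module⟩
  have hfull : ∀ d, InD d → B d d ≠ 0 → ∀ t : F, InD (t • d) := fun d hd hdd t => ⟨by simp [hd.1], by
    have := Q.rule hP hε h0 hd.2 t (Or.inl (by rwa [add_sub_cancel_left]))
    convert this using 1
    module⟩
  have hs1' : (1 - s) ≠ 0 := sub_ne_zero.2 (Ne.symm hs1)
  have hadd : ∀ d d', InD d → InD d' → InD (d + d') := fun d d' hd hd' => ⟨by simp [hd.1, hd'.1], by
    have hA := hreal s⁻¹ (by rw [map_inv₀, hs]) d' hd'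
    have hA' := hreal (1 - s)⁻¹ (by rw [map_inv₀, map_sub, map_one, hs]) d hd
    have := Q.rule hP hε hA'.2 hA.2 s (Or.inr hs)
    convert this using 1
    match_scalars <;> field_simp <;> ring⟩
  have hsub : ∀ d d', InD d → InD d' → InD (d - d') := fun d d' hd hd' => by
    have := hadd d _ hd (hreal (-1) (by rw [map_neg, map_one]) d' hd')
    convert this using 1
    module
  let S : Submodule F V :=
    { carrier := {d | ∀ t : F, InD (t • d)}
      zero_mem' := fun t => by
        rw [smul_zero]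
        exact ⟨map_zero _, by simpa using h0⟩
      smul_mem' := fun a d hd t => by rw [smul_smul]; exact hd _
      add_mem' := fun {d d'} hd hd' t => by rw [smul_add]; exact hadd _ _ (hd t) (hd' t) }
  have hN0 : InD (Q.N f₀) := ⟨Q.B_eps_N _, by
    rw [← u_apply]
    exact Q.gd_map hP hε hu Q.u_eps h0⟩
  have hNN : ∀ d, InD d → InD (Q.N d) := by
    intro d hd
    have h1 : Q.Gd P (Q.u (f₀ + d)) := Q.gd_map hP hε hu Q.u_eps hd.2
    have h2 : InD (Q.N f₀ + (d + Q.N d)) := ⟨by simp [Q.B_eps_N, hd.1], by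
      convert h1 using 1
      rw [map_add, u_apply, u_apply]
      abel⟩
    have := hsub _ _ (hsub _ _ h2 hN0) hd
    convert this using 1
    abel
  have hpow : ∀ k, InD ((Q.N ^ (k + 1)) f₀) := fun k => by
    induction k with
    | zero => rw [pow_one]; exact hN0
    | succ k ih => rw [pow_succ' Q.N (k + 1), Module.End.mul_apply]; exact hNN _ ih
  have hSN : ∀ d ∈ S, Q.N d ∈ S := fun d hd t => by rw [← map_smul]; exact hNN _ (hd t)
  have hm := Q.m1
  have hmid : (Q.N ^ m) f₀ ∈ S := fun t => by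
    refine hfull _ ?_ ?_ t
    · have := hpow (m - 1)
      rwa [show m - 1 + 1 = m by omega] at this
    · rw [Q.B_mid f₀ f₀ (show m + m = 2 * m by omega), h01, map_one, mul_one, mul_one]
      exact pow_ne_zero _ (neg_ne_zero.2 one_ne_zero)
  have hlow : (Q.N ^ (2 * m - 1)) f₀ ∈ S := by
    have : ∀ k, (Q.N ^ (k + m)) f₀ ∈ S := fun k => by
      induction k with
      | zero => rw [zero_add]; exact hmid
      | succ k ih => rw [show k + 1 + m = k + m + 1 by omega, pow_succ', Module.End.mul_apply]; exact hSN _ ih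
    have h := this (m - 1)
    rwa [show m - 1 + m = 2 * m - 1 by omega] at h
  set R := B (Q.N f₀) (Q.N f₀) with hR
  set t := α * (R - 1) with ht
  set d' := Q.N f₀ + t • (Q.N ^ (2 * m - 1)) f₀ with hd'
  have hd'S : d' ∈ S := by
    have hd'D : InD d' := hadd _ _ hN0 (hlow t)
    rcases eq_or_ne m 1 with rfl | hm1
    · rw [hd']
      refine S.add_mem ?_ (S.smul_mem _ hlow)
      simpa using hmid
    refine fun c => hfull _ hd'D ?_ c
    have h1 : B (Q.N f₀) ((Q.N ^ (2 * m - 1)) f₀) = -1 := by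
      have := Q.B_mid f₀ f₀ (show 1 + (2 * m - 1) = 2 * m by omega)
      rw [pow_one, h01, map_one] at this
      rw [this]; ring
    have h2 : B ((Q.N ^ (2 * m - 1)) f₀) (Q.N f₀) = -1 := by rw [← Q.symm, h1, map_neg, map_one]
    have h3 : B ((Q.N ^ (2 * m - 1)) f₀) ((Q.N ^ (2 * m - 1)) f₀) = 0 := Q.B_high _ _ (by omega)
    have hR' : σ R = R := Q.symm _ _
    rw [hd']
    simp only [map_add, LinearMap.map_smulₛₗ, LinearMap.add_apply, LinearMap.smul_apply, smul_eq_mul, map_smul, h1, h2,
      h3, ← hR, RingHom.id_apply, ht, map_sub, map_mul, hR', map_one]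
    intro h
    exact one_ne_zero (α := F) (by linear_combination h + (R - 1) * Q.trα)
  have hNf : Q.N f₀ ∈ S := by
    rw [show Q.N f₀ = d' - t • (Q.N ^ (2 * m - 1)) f₀ by rw [hd', add_sub_cancel_right]]
    exact S.sub_mem hd'S (S.smul_mem _ hlow)
  refine Q.top_of_all hP hε fun v hv => ?_
  have h := Q.range_N_le S hSN (f := f₀) (by rw [h01]; exact one_ne_zero) hNf (z := v - f₀) (by simp [hv, h01]) 1
  simpa [InD] using h.2

/-- Two fixed scalars: a double transvection does the same. -/
theorem top_of_double (hP : P ≤ Herm.iso B) (hu : Q.u ∈ P) (h2 : ∀ a : F, σ a = a → a = 0 ∨ a = 1) (hm : 2 ≤ m)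
    (hε : Good B P Q.eps) {f : V} (hf : Good B P f) (hfe : B Q.eps f = 1) (hfu : B f (Q.N f) = 1)
    {ξ : F} (hw : Good B P (Q.E (2 * m - 1) + ξ • Q.eps)) : Herm.tvGroup B ≤ P := by
  have h11 : (2 : F) = 0 := by
    rcases h2 2 (by rw [map_ofNat]) with e | e
    · exact e
    · exact absurd (show (1 : F) = 0 by linear_combination e) one_ne_zero
  have hneg : ∀ v : V, -v = v := fun v => by
    have : (2 : F) • v = 0 := by rw [h11, zero_smul]
    linear_combination (norm := module) -this
  have hc1 : (1 : F) + σ 1 = 0 := by rw [map_one]; linear_combination h11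
  have tv1 : ∀ {a : V}, Good B P a → ∀ {z : V}, Good B P z → Good B P (z + B a z • a) := fun {a} ha {z} hz => by
    have h := good_map hP (ha.2 1 (cond_of_tr ha.1 hc1)) hz
    rwa [Herm.qrefl_apply, one_mul] at h
  let InD : V → Prop := fun d => B Q.eps d = 0 ∧ ∀ v, Q.Gd P v → Q.Gd P (v + d)
  have hadd : ∀ d d', InD d → InD d' → InD (d + d') := fun d d' hd hd' => ⟨by simp [hd.1, hd'.1], fun v hv => by
    rw [← add_assoc]; exact hd'.2 _ (hd.2 v hv)⟩
  have hzero : InD 0 := ⟨map_zero _, fun v hv => by simpa using hv⟩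
  have heps : ∀ k : F, InD (k • Q.eps) := fun k => ⟨by simp [Q.B_eps_eps], fun v hv => Q.gd_shift hP hε hv k⟩
  have hTw : ∀ {w : V}, Good B P w → B Q.eps w = 0 → ∀ d, InD d → InD (d + B w d • w) := by
    intro w hwG hwe d hd
    refine ⟨by simp [hd.1, hwe], fun v hv => ?_⟩
    set T := Herm.qrefl (B := B) w 1 (cond_of_tr hwG.1 hc1) with hT
    have hTP : T ∈ P := hwG.2 1 _
    have hTe : T Q.eps = Q.eps := by
      rw [hT, Herm.qrefl_apply, ← Q.symm, hwe, map_zero, mul_zero, zero_smul, add_zero]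
    have h1 := Q.gd_map hP hε hTP hTe (hd.2 _ (Q.gd_map hP hε hTP hTe hv))
    convert h1 using 1
    rw [map_add, hT]
    simp only [Herm.qrefl_apply, one_mul, map_add, map_smul, smul_eq_mul, hwG.1, mul_zero, add_zero]
    linear_combination (norm := module) -(h11 • (B w v • w))
  have hNu : ∀ d, InD d → InD (Q.N d) := by
    intro d hd
    have hinv : Q.u⁻¹ ∈ P := P.inv_mem hu
    have hie : Q.u⁻¹ Q.eps = Q.eps := by
      conv_lhs => rw [← Q.u_eps]
      rw [← LinearEquiv.mul_apply, inv_mul_cancel]; rfl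
    have hud : InD (Q.u d) := ⟨by rw [Q.B_eps_u, hd.1], fun v hv => by
      have h1 := Q.gd_map hP hε hu Q.u_eps (hd.2 _ (Q.gd_map hP hε hinv hie hv))
      convert h1 using 1
      rw [map_add, ← LinearEquiv.mul_apply, mul_inv_cancel]; rfl⟩
    have := hadd _ _ hud hd
    convert this using 1
    rw [u_apply]
    linear_combination (norm := module) -(h11 • d)
  set w := Q.E (2 * m - 1) + ξ • Q.eps with hwdef
  have hwe : B Q.eps w = 0 := by
    rw [hwdef, map_add, map_smul, Q.B_eps_eps, Q.B_eps_E, if_neg (by omega), smul_zero, add_zero]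
  have hw2 : Good B P (w + Q.eps) := by
    have h := good_map hP hu hw
    convert h using 1
    rw [hwdef, map_add, map_smul, u_eps, u_E, show 2 * m - 1 + 1 = 2 * m by omega]
    show _ = Q.E (2 * m - 1) + Q.eps + ξ • Q.eps
    module
  have hwD : InD w := ⟨hwe, fun v hv => by
    have hz := hv.2
    set z := Q.lift v with hzdef
    have hze : B Q.eps z = 1 := by rw [Q.B_eps_lift, hv.1]
    have hwe' : B w Q.eps = 0 := by rw [← Q.symm, hwe, map_zero]
    have h3 := tv1 hw (tv1 hw2 hz)
    refine Q.gd_of_good hP hε h3 (by simp [hze, hwe, Q.B_eps_eps]) (k := α * B v v - (B w z + 1)) ?_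
    simp only [map_add, LinearMap.add_apply, hze, hw.1, map_smul, hwe', hzdef, lift, map_sub, LinearMap.sub_apply,
      smul_eq_mul, hv.1, Q.B_eps_eps]
    linear_combination (norm := module) -(h11 • (B w v • w))⟩
  have hE : InD (Q.E (2 * m - 1)) := by
    have := hadd _ _ hwD (heps ξ)
    convert this using 1
    rw [hwdef]
    linear_combination (norm := module) -(h11 • (ξ • Q.eps))
  have hf' : B f f = 0 := hf.1
  have hNf : Good B P (Q.N f) ∧ B Q.eps (Q.N f) = 0 := by
    refine ⟨?_, Q.B_eps_N f⟩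
    have h1 := tv1 hf (good_map hP hu hf)
    convert h1 using 1
    rw [u_apply, map_add, hf', hfu, zero_add]
    linear_combination (norm := module) -(h11 • f)
  have h1N : B (Q.N f) (Q.E (2 * m - 1)) = 1 := by
    have := Q.B_mid f Q.e (show 1 + (2 * m - 1) = 2 * m by omega)
    rw [pow_one, hfe, Q.B_eps_e, map_one] at this
    rw [show Q.E (2 * m - 1) = (Q.N ^ (2 * m - 1)) Q.e from rfl, this]
    linear_combination -h11
  have hNfD : InD (Q.N f) := by
    have := hadd _ _ (hTw hNf.1 hNf.2 _ hE) hE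
    convert this using 1
    rw [h1N]
    linear_combination (norm := module) -(h11 • Q.E (2 * m - 1))
  have hpow : ∀ k, InD ((Q.N ^ (k + 1)) f) := fun k => by
    induction k with
    | zero => rw [pow_one]; exact hNfD
    | succ k ih => rw [pow_succ' Q.N (k + 1), Module.End.mul_apply]; exact hNu _ ih
  set a := (Q.N ^ m) f with ha
  set b := (Q.N ^ (m - 1)) f with hb
  have haD : InD a := by have := hpow (m - 1); rwa [show m - 1 + 1 = m by omega] at this
  have hbD : InD b := by have := hpow (m - 2); rwa [show m - 2 + 1 = m - 1 by omega] at this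
  have hneg1 : ∀ k : ℕ, (-1 : F) ^ k = 1 := fun k => by
    rw [show (-1 : F) = 1 by linear_combination -h11, one_pow]
  have haa : B a a = 1 := by
    rw [ha, Q.B_mid f f (show m + m = 2 * m by omega), hfe, hneg1, map_one, mul_one, one_mul]
  set γ := B a b
  have hγ : γ + σ γ = 1 := by
    have := Q.adj b b
    rw [show Q.N b = a by rw [ha, hb, ← Module.End.mul_apply, ← pow_succ', show m - 1 + 1 = m by omega], haa,
      ← Q.symm a b] at this
    linear_combination this - h11
  have hγn : σ γ * γ = 1 := by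
    rcases h2 (σ γ * γ) (by rw [map_mul, Q.hσ2, mul_comm]) with e | e
    · rcases mul_eq_zero.1 e with e' | e'
      · rw [map_eq_zero] at e'; rw [e', map_zero, add_zero] at hγ; exact absurd hγ zero_ne_one
      · rw [e', map_zero, add_zero] at hγ; exact absurd hγ zero_ne_one
    · exact e
  obtain ⟨ρ, hρn, hρt, hρiso⟩ : ∃ ρ, σ ρ * ρ = 1 ∧ ρ + σ ρ = 1 ∧ 1 + σ ρ * γ + ρ * σ γ + B b b = 0 := by
    rcases h2 (B b b) (Q.symm b b) with e | e
    · refine ⟨σ γ, by rw [Q.hσ2, mul_comm]; exact hγn, by rw [Q.hσ2, add_comm]; exact hγ, ?_⟩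
      rw [Q.hσ2, e]
      linear_combination (γ + σ γ + 1) * hγ - 2 * hγn + (σ γ * γ) * h11 * 0
    · refine ⟨γ, hγn, hγ, ?_⟩
      rw [e]
      linear_combination 2 * hγn + (2 : F) * h11
  have hgf : Q.Gd P f := Q.gd_of_good hP hε hf hfe (k := 0) (by simp)
  have hpa : Q.Gd P (f + ρ • a) := by
    have := Q.rule hP hε hgf (haD.2 _ hgf) ρ (Or.inl (by rw [add_sub_cancel_left, haa]; exact one_ne_zero))
    convert this using 1
    module
  have hpb : Q.Gd P (f + b) := hbD.2 _ hgf
  set p := Q.lift (f + b) with hp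
  set p' := Q.lift (f + ρ • a) with hp'
  have hpe : B Q.eps p = 1 := by rw [hp, Q.B_eps_lift, hpb.1]
  have hpe' : B Q.eps p' = 1 := by rw [hp', Q.B_eps_lift, hpa.1]
  have htr : B p p' + σ (B p p') = 0 := by
    have e : p' - p = ρ • a - b + (α * B (f + b) (f + b) - α * B (f + ρ • a) (f + ρ • a)) • Q.eps := by
      rw [hp, hp', lift, lift]; module
    have h3 : B (p' - p) (p' - p) = -(B p p' + σ (B p p')) := by
      simp only [map_sub, LinearMap.sub_apply, hp, hp', hpa.2.1, hpb.2.1, Q.symm]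
      ring
    have h4 : B (ρ • a - b) (ρ • a - b) = 0 := by
      simp only [map_sub, LinearMap.map_smulₛₗ, LinearMap.sub_apply, LinearMap.smul_apply, smul_eq_mul, map_smul, haa,
        ← Q.symm a b, RingHom.id_apply]
      linear_combination hρn + hρiso - (σ ρ * γ + ρ * σ γ) * h11
    have h5 : B Q.eps (ρ • a - b) = 0 := by simp [haD.1, hbD.1]
    have h6 : B (ρ • a - b) Q.eps = 0 := by rw [← Q.symm, h5, map_zero]
    have h7 : B (p' - p) (p' - p) = 0 := by
      rw [e]
      generalize ρ • a - b = D at h4 h5 h6 ⊢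
      generalize α * B (f + b) (f + b) - α * B (f + ρ • a) (f + ρ • a) = c
      simp [h4, h5, h6, Q.B_eps_eps]
    rw [h7] at h3
    linear_combination h3
  have hk : (1 - B p p') + σ (1 - B p p') = 0 := by rw [map_sub, map_one]; linear_combination h11 - htr
  set p'' := p' + (1 - B p p') • Q.eps with hp''
  have hpp : B p p'' = 1 := by
    rw [hp'', map_add, map_smul, ← Q.symm Q.eps p, hpe, map_one, smul_eq_mul, mul_one, add_sub_cancel]
  have hG'' : Good B P p'' := Q.good_of_gd hP hε hpa (by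
      rw [hp'']
      simp only [map_add, LinearMap.map_smulₛₗ, LinearMap.add_apply, LinearMap.smul_apply, smul_eq_mul, map_smul,
        hp', hpa.2.1, Q.B_eps_eps, RingHom.id_apply]
      rw [← hp', ← Q.symm Q.eps p', hpe', map_one]
      linear_combination hk) (k := (1 - B p p') - α * B (f + ρ • a) (f + ρ • a)) (by rw [hp'', hp', lift]; module)
  have hw'' : Good B P (p'' + p) := by
    have := tv1 hpb.2 hG''
    rwa [← hp, hpp, one_smul] at this
  have hwe'' : B Q.eps (p'' + p) = 0 := by
    rw [hp'']; simp [hpe, hpe', Q.B_eps_eps]; linear_combination h11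
  set d := (Q.N ^ (m + 1)) f with hd
  have hdD : InD d := hpow m
  have e : p'' + p = ρ • a + b + (1 - B p p' - α * B (f + ρ • a) (f + ρ • a) - α * B (f + b) (f + b)) • Q.eps := by
    rw [hp'', hp', hp, lift, lift]
    linear_combination (norm := module) h11 • f
  have hwd : B (p'' + p) d = 1 := by
    have e1 : B a d = 0 := Q.B_high f f (by omega)
    have e2 : B b d = 1 := by
      rw [hb, hd, Q.B_mid f f (show m - 1 + (m + 1) = 2 * m by omega), hfe, hneg1, map_one, mul_one, one_mul]
    rw [e]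
    simp only [map_add, LinearMap.map_smulₛₗ, LinearMap.add_apply, LinearMap.smul_apply, smul_eq_mul, e1, e2, hdD.1,
      mul_zero, zero_add, add_zero]
  have hρa : InD (ρ • a) := by
    have h1 := hadd _ _ (hTw hw'' hwe'' d hdD) hdD
    have h2' := hadd _ _ (hadd _ _ h1 hbD)
      (heps (1 - B p p' - α * B (f + ρ • a) (f + ρ • a) - α * B (f + b) (f + b)))
    convert h2' using 1
    rw [hwd, one_smul, e]
    linear_combination (norm := module)
      -(h11 • (d + b + (1 - B p p' - α * B (f + ρ • a) (f + ρ • a) - α * B (f + b) (f + b)) • Q.eps))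
  have four : ∀ t : F, t = 0 ∨ t = 1 ∨ t = ρ ∨ t = 1 + ρ := by
    intro t
    rcases h2 (t + σ t) (by rw [map_add, Q.hσ2, add_comm]) with e | e
    · rcases h2 t (by linear_combination e - t * h11) with e' | e'
      · exact Or.inl e'
      · exact Or.inr (Or.inl e')
    · rcases h2 (t - ρ) (by rw [map_sub]; linear_combination e - hρt - (t - ρ) * h11) with e' | e'
      · exact Or.inr (Or.inr (Or.inl (sub_eq_zero.1 e')))
      · exact Or.inr (Or.inr (Or.inr (by linear_combination e')))
  let S : Submodule F V :=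
    { carrier := {d | ∀ t : F, InD (t • d)}
      zero_mem' := fun t => by rw [smul_zero]; exact hzero
      smul_mem' := fun c d hd t => by rw [smul_smul]; exact hd _
      add_mem' := fun {d d'} hd hd' t => by rw [smul_add]; exact hadd _ _ (hd t) (hd' t) }
  have mem_of : ∀ d, InD d → InD (ρ • d) → d ∈ S := fun d h1 hr t => by
    rcases four t with rfl | rfl | rfl | rfl
    · rw [zero_smul]; exact hzero
    · rwa [one_smul]
    · exact hr
    · rw [add_smul, one_smul]; exact hadd _ _ h1 hr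
  have hSN : ∀ d ∈ S, Q.N d ∈ S := fun d hd t => by rw [← map_smul]; exact hNu _ (hd t)
  have hlow : (Q.N ^ (2 * m - 1)) f ∈ S := by
    have : ∀ k, (Q.N ^ (k + m)) f ∈ S := fun k => by
      induction k with
      | zero => rw [zero_add]; exact mem_of a haD hρa
      | succ k ih => rw [show k + 1 + m = k + m + 1 by omega, pow_succ', Module.End.mul_apply]; exact hSN _ ih
    have h := this (m - 1)
    rwa [show m - 1 + m = 2 * m - 1 by omega] at h
  have hρN : InD (ρ • Q.N f) := by
    set c := (Q.N ^ (2 * m - 1)) f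
    have hc : B (Q.N f) c = 1 := by
      have := Q.B_mid f f (show 1 + (2 * m - 1) = 2 * m by omega)
      rw [hneg1, hfe, map_one, one_mul, mul_one, pow_one] at this
      exact this
    have h1 := hadd _ _ (hTw hNf.1 hNf.2 _ (hlow ρ)) (hlow ρ)
    convert h1 using 1
    rw [map_smul, hc]
    simp only [smul_eq_mul, mul_one]
    linear_combination (norm := module) -(h11 • (ρ • c))
  refine Q.top_of_all hP hε fun v hv => ?_
  have h := Q.range_N_le S hSN (f := f) (by rw [hfe]; exact one_ne_zero) (mem_of _ hNfD hρN) (z := v - f)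
    (by simp [hv, hfe]) 1
  simpa [InD] using h.2 f hgf

end HModel

end Cfsg.Lib.Linear.SUThree
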