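import Cfsg.Agent.Lib.Linear.SUThree.Tools

/-!
# Three conjugates of a regular unipotent element generating a unitary group of dimension at least five
-/

set_option autoImplicit false

namespace Cfsg.Lib.Linear.SUThree

open Module

variable {F V : Type*} [Field F] [AddCommGroup V] [Module F V] {σ : F →+* F} {B : V →ₛₗ[σ] V →ₗ[F] F}

/-- A generator of the multiplicative group. -/
theorem exists_gen [Fintype F] {q : ℕ} (hF : Fintype.card F = q ^ 2) : ∃ γ : Fˣ, orderOf γ = q ^ 2 - 1 := by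
  classical
  obtain ⟨γ, hγ⟩ := IsCyclic.exists_ofOrder_eq_natCard (α := Fˣ)
  exact ⟨γ, by rw [hγ, Nat.card_eq_fintype_card, Fintype.card_units, hF]⟩

theorem sq_sub_one (q : ℕ) : q ^ 2 - 1 = (q + 1) * (q - 1) := by
  rcases q with _ | q
  · rfl
  · simp [pow_two]; ring_nf; omega

/-- Powers of the norm of a generator are all fixed scalars. -/
theorem fixed_eq_pow [Fintype F] {q : ℕ} (hF : Fintype.card F = q ^ 2) (hq : 2 ≤ q) {γ : Fˣ}
    (hγ : orderOf γ = q ^ 2 - 1) (hσq : ∀ x, σ x = x ^ q) {r : F} (hr : σ r = r) (hr0 : r ≠ 0) :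
    ∃ k : ℕ, r = ((γ : F) ^ (q + 1)) ^ k := by
  classical
  obtain ⟨j, hj⟩ : ∃ j : ℕ, γ ^ j = Units.mk0 r hr0 := by
    have hmem : Units.mk0 r hr0 ∈ Subgroup.zpowers γ := by
      have htop : Subgroup.zpowers γ = ⊤ := Subgroup.eq_top_of_card_eq _ (by
        rw [Nat.card_zpowers, hγ, Nat.card_eq_fintype_card, Fintype.card_units, hF])
      rw [htop]; trivial
    exact mem_powers_iff_mem_zpowers.2 hmem
  have h1 : γ ^ (j * (q - 1)) = 1 := by
    rw [pow_mul, hj]
    ext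
    rw [Units.val_pow_eq_pow_val, Units.val_mk0, Units.val_one]
    refine mul_right_cancel₀ hr0 ?_
    rw [← pow_succ, show q - 1 + 1 = q by omega, ← hσq, hr, one_mul]
  have h2 := orderOf_dvd_of_pow_eq_one h1
  rw [hγ, sq_sub_one] at h2
  obtain ⟨k, hk⟩ := Nat.dvd_of_mul_dvd_mul_right (by omega) h2
  refine ⟨k, ?_⟩
  rw [← pow_mul, ← hk, ← Units.val_pow_eq_pow_val, hj, Units.val_mk0]

/-- A scalar whose norm generates the fixed field, off the exceptional circle. -/
theorem exists_lambda [Fintype F] {q : ℕ} (hF : Fintype.card F = q ^ 2) (hq : 3 ≤ q) (hσq : ∀ x, σ x = x ^ q) :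
    ∃ l : F, l ≠ 0 ∧ (∀ r, σ r = r → r ≠ 0 → ∃ k : ℕ, r = (σ l * l) ^ k) ∧ σ l * l ≠ 1 ∧
      σ (l - 3) * (l - 3) ≠ 1 := by
  classical
  obtain ⟨γ, hγ⟩ := exists_gen hF
  set ζ : Fˣ := γ ^ (q - 1) with hζ
  have hζn : σ (ζ : F) * (ζ : F) = 1 := by
    rw [hσq, ← pow_succ, hζ, ← Units.val_pow_eq_pow_val, ← pow_mul, mul_comm, ← sq_sub_one, ← hγ,
      pow_orderOf_eq_one, Units.val_one]
  have hμ : ∀ i : ℕ, σ ((γ : F) * (ζ : F) ^ i) * ((γ : F) * (ζ : F) ^ i) = (γ : F) ^ (q + 1) := fun i => by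
    rw [map_mul, map_pow, mul_mul_mul_comm, ← mul_pow, hζn, one_pow, mul_one, hσq, ← pow_succ]
  have hμ1 : (γ : F) ^ (q + 1) ≠ 1 := by
    intro h
    have h' : γ ^ (q + 1) = 1 := Units.ext (by rw [Units.val_pow_eq_pow_val, h, Units.val_one])
    have h2 := Nat.le_of_dvd (by omega) (orderOf_dvd_of_pow_eq_one h')
    rw [hγ, sq_sub_one] at h2
    have : 2 * (q + 1) ≤ (q + 1) * (q - 1) := by rw [mul_comm 2]; exact Nat.mul_le_mul_left _ (by omega)
    omega
  have hgen : ∀ i : ℕ, ∀ r, σ r = r → r ≠ 0 → ∃ k : ℕ, r = (σ ((γ : F) * (ζ : F) ^ i) * ((γ : F) * (ζ : F) ^ i)) ^ k :=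
    fun i r hr hr0 => by rw [hμ]; exact fixed_eq_pow hF (by omega) hγ hσq hr hr0
  suffices h : ∃ i, σ ((γ : F) * (ζ : F) ^ i - 3) * ((γ : F) * (ζ : F) ^ i - 3) ≠ 1 by
    obtain ⟨i, hi⟩ := h
    exact ⟨_, mul_ne_zero γ.ne_zero (pow_ne_zero _ ζ.ne_zero), hgen i, by rw [hμ]; exact hμ1, hi⟩
  by_contra hc
  push_neg at hc
  have h0 := hc 0
  have h1 := hc 1
  have h2 := hc 2
  have e : ∀ i : ℕ, σ ((γ : F) * (ζ : F) ^ i - 3) * ((γ : F) * (ζ : F) ^ i - 3) =
      (γ : F) ^ (q + 1) + 9 - 3 * ((γ : F) * (ζ : F) ^ i + σ ((γ : F) * (ζ : F) ^ i)) := fun i => by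
    rw [map_sub, map_ofNat]
    linear_combination hμ i
  rw [e] at h0 h1 h2
  by_cases h3 : (3 : F) = 0
  · exact hμ1 (by linear_combination h0 + ((γ : F) * (ζ : F) ^ 0 + σ ((γ : F) * (ζ : F) ^ 0)) * h3 - 3 * h3)
  set a := (γ : F) * (ζ : F) ^ 0 with ha
  set b := (γ : F) * (ζ : F) ^ 1 with hb
  set c := (γ : F) * (ζ : F) ^ 2 with hc'
  have ht1 : b + σ b = a + σ a := mul_left_cancel₀ h3 (by linear_combination h0 - h1)
  have ht2 : c + σ c = a + σ a := mul_left_cancel₀ h3 (by linear_combination h0 - h2)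
  have root : ∀ i, ((γ : F) * (ζ : F) ^ i) + σ ((γ : F) * (ζ : F) ^ i) = a + σ a →
      ((γ : F) * (ζ : F) ^ i - a) * ((γ : F) * (ζ : F) ^ i - σ a) = 0 := fun i hi => by
    linear_combination ((γ : F) * (ζ : F) ^ i) * hi - hμ i + hμ 0
  have hinj : ∀ i j : ℕ, i < 3 → j < 3 → (γ : F) * (ζ : F) ^ i = (γ : F) * (ζ : F) ^ j → i = j := by
    intro i j hi hj h
    have h' : ζ ^ i = ζ ^ j := Units.ext (by
      rw [Units.val_pow_eq_pow_val, Units.val_pow_eq_pow_val]
      exact mul_left_cancel₀ γ.ne_zero h)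
    have ho : orderOf ζ = q + 1 := by
      rw [hζ, orderOf_pow' _ (by omega), hγ, sq_sub_one, Nat.gcd_mul_left_left, Nat.mul_div_cancel _ (by omega)]
    exact pow_injOn_Iio_orderOf (show i < orderOf ζ by omega) (show j < orderOf ζ by omega) h'
  have hb1 : b = σ a := by
    refine sub_eq_zero.1 ((mul_eq_zero.1 (root 1 ht1)).resolve_left fun h => ?_)
    have := hinj 1 0 (by omega) (by omega) (sub_eq_zero.1 h)
    omega
  have hc1 : c = σ a := by
    refine sub_eq_zero.1 ((mul_eq_zero.1 (root 2 ht2)).resolve_left fun h => ?_)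
    have := hinj 2 0 (by omega) (by omega) (sub_eq_zero.1 h)
    omega
  have := hinj 1 2 (by omega) (by omega) (hb1.trans hc1.symm)
  omega

namespace HModel

variable {m : ℕ} {α : F} (Q : HModel m α B)

/-- Vectors `x` with `B (x, (u - 1) x)` prescribed. -/
theorem exists_x (hm2 : 2 ≤ m) (D : F) :
    ∃ x : V, ∃ K : ℕ, (Q.N ^ (K + 2)) x ≠ 0 ∧ (Q.N ^ (K + 3)) x = 0 ∧ B x x = 0 ∧
      B x (Q.N x) = (-1) ^ m * D ∧ B x (Q.N (Q.N x)) = (-1) ^ m * (α + D + σ D) := by
  set s : F := (-1) ^ m with hs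
  have hσs : σ s = s := by rw [hs, map_pow, map_neg, map_one]
  have hs1 : (-1 : F) ^ (m - 1) = -s := by
    rw [hs]
    conv_rhs => rw [show m = m - 1 + 1 by omega, pow_succ]
    ring
  have hs2 : (-1 : F) ^ (m - 2) = s := by
    rw [hs]
    conv_rhs => rw [show m = m - 2 + 2 by omega, pow_add]
    simp
  have hss : s * s = 1 := by rw [hs, ← mul_pow, neg_mul_neg, one_mul, one_pow]
  set τ := -(D * α)
  set x' := Q.E (m - 2) + D • Q.E m + τ • Q.E (m + 1) with hx'
  set R := B x' x' with hR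
  set τ₀ := -(s * R * α) with hτ₀
  set x := x' + τ₀ • Q.E (m + 2) with hx
  have g1 : Q.G (m - 2) (m - 1) = 0 := Q.G_zero (by omega) (by omega)
  have g2 : Q.G (m - 2) m = s * α := by rw [Q.G_m (show m - 2 < m by omega), hs2]
  have g3 : Q.G (m - 2) (m + 1) = s * (α + 1) := by
    rw [Q.G_sub (a := m - 2) (b := m + 1) (by omega), hs2, Nat.cast_sub hm2]; push_cast; ring
  have g4 : Q.G (m - 2) (m + 2) = s := by rw [Q.G_top (a := m - 2) (b := m + 2) (by omega), hs2]
  have g5 : Q.G m (m - 1) = -(s * σ α) := by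
    rw [Q.G_swap, Q.G_m (show m - 1 < m by omega), hs1, map_mul, map_neg, hσs]; ring
  have g6 : Q.G (m + 1) (m - 1) = -s := by
    rw [Q.G_top (a := m + 1) (b := m - 1) (by omega), pow_succ, ← hs]; ring
  have g7 : Q.G m m = s := Q.G_top (by omega)
  have g8 : Q.G (m + 2) (m - 2) = s := by rw [Q.G_swap, g4, hσs]
  have hi : ∀ {a b : ℕ}, 2 * m + 1 ≤ a + b → Q.G a b = 0 := fun h => Q.G_high h
  refine ⟨x, m, ?_, ?_, ?_, ?_, ?_⟩
  · rw [hx, hx']
    simp only [map_add, map_smul, Npow_E, Q.E_eq_zero (show 2 * m + 1 ≤ m + 2 + m by omega),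
      Q.E_eq_zero (show 2 * m + 1 ≤ m + 2 + (m + 1) by omega),
      Q.E_eq_zero (show 2 * m + 1 ≤ m + 2 + (m + 2) by omega), smul_zero, add_zero]
    rw [show m + 2 + (m - 2) = 2 * m by omega]
    exact Q.eps_ne
  · rw [hx, hx']
    simp only [map_add, map_smul, Npow_E, Q.E_eq_zero (show 2 * m + 1 ≤ m + 3 + (m - 2) by omega),
      Q.E_eq_zero (show 2 * m + 1 ≤ m + 3 + m by omega),
      Q.E_eq_zero (show 2 * m + 1 ≤ m + 3 + (m + 1) by omega),
      Q.E_eq_zero (show 2 * m + 1 ≤ m + 3 + (m + 2) by omega), smul_zero, add_zero]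
  · have e1 : B x' (Q.E (m + 2)) = s := by
      rw [hx']
      simp only [map_add, LinearMap.map_smulₛₗ, LinearMap.add_apply, LinearMap.smul_apply, smul_eq_mul]
      show Q.G (m - 2) (m + 2) + σ D * Q.G m (m + 2) + σ τ * Q.G (m + 1) (m + 2) = _
      rw [g4, hi (by omega), hi (by omega)]; ring
    have e2 : B (Q.E (m + 2)) x' = s := by rw [← Q.symm, e1, hσs]
    have e3 : B (Q.E (m + 2)) (Q.E (m + 2)) = 0 := hi (by omega)
    have hR' : σ R = R := Q.symm _ _
    rw [hx]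
    simp only [map_add, LinearMap.map_smulₛₗ, LinearMap.add_apply, LinearMap.smul_apply, smul_eq_mul, map_smul, e1, e2,
      e3, ← hR, RingHom.id_apply, hτ₀, map_neg, map_mul, hσs, hR']
    linear_combination (-(R * s * s)) * Q.trα - R * hss
  · rw [hx, hx']
    simp only [map_add, map_smul, N_E, LinearMap.map_smulₛₗ, LinearMap.add_apply, LinearMap.smul_apply, smul_eq_mul,
      RingHom.id_apply]
    simp only [← G.eq_def]
    simp only [show m - 2 + 1 = m - 1 by omega, g1, g3, g4, g5, g6, show m + 1 + 1 = m + 2 by omega,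
      hi (show 2 * m + 1 ≤ m - 2 + (m + 2 + 1) by omega), hi (show 2 * m + 1 ≤ m + (m + 1) by omega),
      hi (show 2 * m + 1 ≤ m + (m + 2) by omega), hi (show 2 * m + 1 ≤ m + (m + 2 + 1) by omega),
      hi (show 2 * m + 1 ≤ m + 1 + (m + 1) by omega), hi (show 2 * m + 1 ≤ m + 1 + (m + 2) by omega),
      hi (show 2 * m + 1 ≤ m + 1 + (m + 2 + 1) by omega), hi (show 2 * m + 1 ≤ m + 2 + (m - 1) by omega),
      hi (show 2 * m + 1 ≤ m + 2 + (m + 1) by omega), hi (show 2 * m + 1 ≤ m + 2 + (m + 2) by omega),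
      hi (show 2 * m + 1 ≤ m + 2 + (m + 2 + 1) by omega), τ, map_neg, map_mul]
    ring
  · rw [hx, hx']
    simp only [map_add, map_smul, N_E, LinearMap.map_smulₛₗ, LinearMap.add_apply, LinearMap.smul_apply, smul_eq_mul,
      RingHom.id_apply]
    simp only [← G.eq_def]
    simp only [show m - 2 + 1 + 1 = m by omega, g2, g4, g7, g8, show m + 1 + 1 = m + 2 by omega,
      hi (show 2 * m + 1 ≤ m - 2 + (m + 2 + 1) by omega), hi (show 2 * m + 1 ≤ m - 2 + (m + 2 + 1 + 1) by omega),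
      hi (show 2 * m + 1 ≤ m + (m + 2) by omega), hi (show 2 * m + 1 ≤ m + (m + 2 + 1) by omega),
      hi (show 2 * m + 1 ≤ m + (m + 2 + 1 + 1) by omega),
      hi (show 2 * m + 1 ≤ m + 1 + m by omega), hi (show 2 * m + 1 ≤ m + 1 + (m + 2) by omega),
      hi (show 2 * m + 1 ≤ m + 1 + (m + 2 + 1) by omega), hi (show 2 * m + 1 ≤ m + 1 + (m + 2 + 1 + 1) by omega),
      hi (show 2 * m + 1 ≤ m + 2 + m by omega), hi (show 2 * m + 1 ≤ m + 2 + (m + 2) by omega),
      hi (show 2 * m + 1 ≤ m + 2 + (m + 2 + 1) by omega), hi (show 2 * m + 1 ≤ m + 2 + (m + 2 + 1 + 1) by omega)]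
    ring

/-- Isotropic vectors `y` with `B (y, (u - 1) y)` prescribed. -/
theorem exists_y (hm2 : 2 ≤ m) (D : F) : ∃ y : V, B Q.eps y = 1 ∧ B y y = 0 ∧ B y (Q.N y) = D := by
  set c := α + (m : F) - 2
  set τ := -(D * c) with hτ
  set y' := Q.e + D • Q.E (2 * m - 2) + τ • Q.E (2 * m - 1) with hy'
  have he : B Q.eps y' = 1 := by
    rw [hy']; simp [Q.B_eps_e, Q.B_eps_E, show 2 * m - 2 ≠ 0 by omega, show 2 * m - 1 ≠ 0 by omega]
  refine ⟨Q.lift y', by rw [Q.B_eps_lift, he], Q.lift_iso he, ?_⟩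
  have hN : Q.N (Q.lift y') = Q.N y' := by rw [lift, map_sub, map_smul, N_eps, smul_zero, sub_zero]
  have hN2 : B (Q.lift y') (Q.N y') = B y' (Q.N y') := by
    simp [lift, Q.B_eps_N]
  rw [hN, hN2, hy', ← E_zero]
  simp only [map_add, map_smul, N_E, LinearMap.map_smulₛₗ, LinearMap.add_apply, LinearMap.smul_apply, smul_eq_mul,
    RingHom.id_apply]
  simp only [← G.eq_def]
  simp only [show 2 * m - 2 + 1 = 2 * m - 1 by omega, show 2 * m - 1 + 1 = 2 * m by omega,
    Q.G_zero (show 0 < m by omega) (show 0 + 1 < m by omega), Q.G_sub (a := 0) (b := 2 * m - 1) (by omega),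
    Q.G_top (a := 0) (b := 2 * m) (by omega), Q.G_sub (a := 2 * m - 2) (b := 0 + 1) (by omega),
    Q.G_top (a := 2 * m - 1) (b := 0 + 1) (by omega),
    Q.G_high (show 2 * m + 1 ≤ 2 * m - 2 + (2 * m - 1) by omega), Q.G_high (show 2 * m + 1 ≤ 2 * m - 2 + 2 * m by omega),
    Q.G_high (show 2 * m + 1 ≤ 2 * m - 1 + (2 * m - 1) by omega), Q.G_high (show 2 * m + 1 ≤ 2 * m - 1 + 2 * m by omega)]
  rw [(show Even (2 * m - 2) from ⟨m - 1, by omega⟩).neg_one_pow,
    (show Odd (2 * m - 1) from ⟨m - 1, by omega⟩).neg_one_pow, Nat.cast_sub (show 2 ≤ 2 * m by omega), hτ, map_neg,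
    map_mul, show σ c = σ α + (m : F) - 2 by simp [c, map_ofNat]]
  push_cast
  linear_combination σ D * Q.trα

theorem threeGen_big [Fintype F] {q : ℕ} (hF : Fintype.card F = q ^ 2) (hq : 3 ≤ q) (hσq : ∀ x, σ x = x ^ q)
    (hm2 : 2 ≤ m) : Q.ThreeGen := by
  classical
  haveI := Q.finite
  obtain ⟨l, hl0, hgen, hl1, hl3⟩ := exists_lambda hF hq hσq
  obtain ⟨δ, hδ0, hδ⟩ := Herm.exists_trace_zero Q.hσ Q.hσ2
  set den := σ (l - 3) * (l - 3) - 1 with hden'
  have hden : den ≠ 0 := sub_ne_zero.2 hl3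
  set D := (α * σ (l - 3) + σ α) / den with hD'
  have hσden : σ den = den := by rw [hden', map_sub, map_mul, map_one, Q.hσ2, mul_comm]
  have hD : (l - 3) * D - σ D = α := by
    rw [hD', map_div₀, hσden, map_add, map_mul, Q.hσ2, Q.hσ2]
    field_simp
    rw [hden']
    ring
  have hα : α ≠ 0 := fun h => by have := Q.trα; rw [h, map_zero, add_zero] at this; exact zero_ne_one this
  have hD0 : D ≠ 0 := fun h => hα (by rw [h, map_zero, mul_zero, sub_zero] at hD; exact hD.symm)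
  set s : F := (-1) ^ m with hs
  have hs0 : s ≠ 0 := pow_ne_zero _ (neg_ne_zero.2 one_ne_zero)
  obtain ⟨x, K, hK, hK', hxx, hH1, hH2⟩ := Q.exists_x hm2 D
  rw [← hs] at hH1 hH2
  set φ := s * D with hφ
  have hφ0 : φ ≠ 0 := mul_ne_zero hs0 hD0
  obtain ⟨y, hye, hyy, hyN⟩ := Q.exists_y hm2 (φ / l)
  set ν := σ φ with hν
  have hν0 : ν ≠ 0 := (map_ne_zero σ).2 hφ0
  have huy : B Q.eps (Q.u y) = 1 := by rw [Q.B_eps_u, hye]
  obtain ⟨g, hg, hgd, hv0, hv1⟩ := Q.exists_conj_three hm2 (t₀ := ν • Q.eps) (t₁ := y) (t₂ := l • Q.u y) hK hK'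
    (by
      intro a b d h
      simp only [smul_smul] at h
      have e1 := congrArg (fun z => B Q.eps z) h
      simp only [map_add, map_smul, Q.B_eps_eps, hye, huy, map_zero, smul_eq_mul] at e1
      have e2 := congrArg (Q.N ^ (2 * m - 1)) h
      have hpu : ∀ z, (Q.N ^ (2 * m - 1)) (Q.u z) = (Q.N ^ (2 * m - 1)) z + (Q.N ^ (2 * m)) z := fun z => by
        rw [u_apply, map_add, ← Module.End.mul_apply _ Q.N, ← pow_succ, show 2 * m - 1 + 1 = 2 * m by omega]
      have hpe : (Q.N ^ (2 * m - 1)) Q.eps = 0 := by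
        rw [show 2 * m - 1 = 2 * m - 2 + 1 by omega, pow_succ, Module.End.mul_apply, N_eps, map_zero]
      simp only [map_add, map_smul, hpu, hpe, smul_zero, zero_add, map_zero, Q.N_pow_top, hye, one_smul] at e2
      have hsum : b + d * l = 0 := by linear_combination e1
      rw [smul_add, ← add_assoc, ← add_smul, hsum, zero_smul, zero_add, smul_eq_zero, or_iff_left Q.eps_ne,
        mul_eq_zero, or_iff_left hl0] at e2
      rw [e2, zero_mul, add_zero] at hsum
      rw [e2, hsum, zero_mul, zero_smul, zero_smul, add_zero, add_zero, smul_eq_zero,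
        or_iff_left Q.eps_ne, mul_eq_zero, or_iff_left hν0] at h
      exact ⟨h, hsum, e2⟩)
    hxx (by rw [hH1]; exact hφ0) (by simp [Q.B_eps_eps]) hyy
    (by simp [Q.u_inv, hyy])
    (by rw [LinearMap.map_smulₛₗ, LinearMap.smul_apply, hye, hH1, hν, Q.hσ2, smul_eq_mul, mul_one])
    (by
      simp only [LinearMap.map_smulₛₗ, LinearMap.smul_apply, smul_eq_mul, RingHom.id_apply, huy, hH1, hH2, hν, Q.hσ2]
      rw [hφ]
      linear_combination s * hD)
    (by
      rw [map_smul, u_apply, map_add, hyy, hyN, zero_add, hH1, smul_eq_mul]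
      field_simp)
  obtain ⟨h, hh, hhd, hseed⟩ := Q.exists_seed hδ
  refine ⟨g, hg, hgd, h, hh, hhd, fun P hP hu hv hw => ?_⟩
  set v := g * Q.u * g⁻¹
  rw [hseed] at hw
  have hc' : Herm.qrefl Q.eps δ (cond_of_tr Q.B_eps_eps hδ) ∈ P := by simpa using P.mul_mem (P.inv_mem hu) hw
  set f := ν⁻¹ • y with hf
  have hve : v Q.eps = f := by
    have := congrArg (fun z => ν⁻¹ • z) hv0
    simp only [map_smul, inv_smul_smul₀ hν0] at this
    rw [this, hf]
  have hvf : (Q.u⁻¹ * v) f = l • f := by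
    rw [LinearEquiv.mul_apply, hf, map_smul, map_smul, hv1, map_smul, ← LinearEquiv.mul_apply, inv_mul_cancel,
      smul_comm]
    rfl
  have hff : B f f = 0 := by rw [hf]; simp [hyy]
  have hfG : Good B P f := by
    have hk : δ + σ δ + σ δ * δ * B (v Q.eps) (v Q.eps) = 0 := by rw [hve]; exact cond_of_tr hff hδ
    refine good_of_eigen Q.hσ2 hP (P.mul_mem (P.inv_mem hu) hv) hff hvf hδ0 (cond_of_tr hff hδ) ?_ hgen
    have := qrefl_map (hP hv) (cond_of_tr Q.B_eps_eps hδ) hk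
    have h2 : Herm.qrefl (v Q.eps) δ hk ∈ P := this ▸ P.mul_mem (P.mul_mem hv hc') (P.inv_mem hv)
    convert h2 using 1
    refine LinearEquiv.ext fun z => ?_
    simp only [Herm.qrefl_apply, hve]
  have hεG : Good B P Q.eps := by
    have := good_map hP (P.inv_mem hv) hfG
    rwa [← hve, ← LinearEquiv.mul_apply, inv_mul_cancel] at this
  exact Q.top_of_eps hP hu hεG (s := σ l * l) (by rw [map_mul, Q.hσ2, mul_comm])
    (mul_ne_zero ((map_ne_zero σ).2 hl0) hl0) hl1 hfG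
    (by rw [hf, map_smul, hye, smul_eq_mul, mul_one]; exact inv_ne_zero hν0)

theorem threeGen_two (h2 : ∀ a : F, σ a = a → a = 0 ∨ a = 1) (hm2 : 2 ≤ m) : Q.ThreeGen := by
  haveI := Q.finite
  have h11 : (2 : F) = 0 := by
    rcases h2 2 (by rw [map_ofNat]) with e | e
    · exact e
    · exact absurd (show (1 : F) = 0 by linear_combination e) one_ne_zero
  have hneg : (-1 : F) ^ m = 1 := by rw [show (-1 : F) = 1 by linear_combination -h11, one_pow]
  have hαn : σ α * α = 1 := by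
    have hα : α ≠ 0 := fun h => by have := Q.trα; rw [h, map_zero, add_zero] at this; exact zero_ne_one this
    rcases h2 (σ α * α) (by rw [map_mul, Q.hσ2, mul_comm]) with e | e
    · exact absurd e (mul_ne_zero ((map_ne_zero σ).2 hα) hα)
    · exact e
  have hα0 : α ≠ 0 := fun h => by rw [h, mul_zero] at hαn; exact zero_ne_one hαn
  obtain ⟨x, K, hK, hK', hxx, hH1, hH2⟩ := Q.exists_x hm2 α
  rw [hneg, one_mul] at hH1 hH2
  obtain ⟨f, hfe, hff, hfN⟩ := Q.exists_y hm2 1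
  set E' := Q.E (2 * m - 1) with hE'
  set ξ := 1 - B f E' with hξ
  set z := f + E' + ξ • Q.eps with hz
  have hfe' : B f Q.eps = 1 := by rw [← Q.symm, hfe, map_one]
  have hEe : B Q.eps E' = 0 := by rw [hE', Q.B_eps_E, if_neg (by omega)]
  have hEe' : B E' Q.eps = 0 := by rw [← Q.symm, hEe, map_zero]
  have hEE : B E' E' = 0 := Q.G_high (by omega)
  have hze : B Q.eps z = 1 := by simp [hz, hfe, hEe, Q.B_eps_eps]
  have hfz : B f z = 1 := by rw [hz, map_add, map_add, map_smul, hff, hfe', hξ, smul_eq_mul]; ring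
  have hzz : B z z = 0 := by
    rw [hz]
    simp only [map_add, LinearMap.map_smulₛₗ, LinearMap.add_apply, LinearMap.smul_apply, smul_eq_mul, map_smul, hff,
      hfe, hfe', hEe, hEe', hEE, Q.B_eps_eps, RingHom.id_apply, ← Q.symm f E', hξ, map_sub, map_one]
    linear_combination h11
  obtain ⟨g, hg, hgd, hv0, hv1⟩ := Q.exists_conj_three hm2 (t₀ := σ α • Q.eps) (t₁ := f) (t₂ := α • z) hK hK'
    (by
      intro a b d h
      simp only [smul_smul] at h
      have e1 := congrArg (fun w => B Q.eps w) h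
      simp only [map_add, map_smul, Q.B_eps_eps, hfe, hze, map_zero, smul_eq_mul] at e1
      have hb : b = -(d * α) := by linear_combination e1
      have hNz : Q.N z - Q.N f = Q.eps := by
        rw [hz, map_add, map_add, map_smul, N_eps, smul_zero, add_zero, add_sub_cancel_left, hE', N_E,
          show 2 * m - 1 + 1 = 2 * m by omega]
        rfl
      have e2 := congrArg Q.N h
      simp only [map_add, map_smul, N_eps, smul_zero, zero_add, map_zero, hb] at e2
      have e3 : (d * α) • Q.eps = 0 := by rw [← hNz, smul_sub, ← e2]; module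
      have hd : d = 0 := by
        rw [smul_eq_zero, or_iff_left Q.eps_ne, mul_eq_zero, or_iff_left hα0] at e3
        exact e3
      rw [hd, zero_mul, neg_zero] at hb
      rw [hd, hb, zero_mul, zero_smul, zero_smul, add_zero, add_zero, smul_eq_zero, or_iff_left Q.eps_ne,
        mul_eq_zero, or_iff_left ((map_ne_zero σ).2 hα0)] at h
      exact ⟨h, hb, hd⟩)
    hxx (by rw [hH1]; exact hα0) (by simp [Q.B_eps_eps]) hff (by simp [hzz])
    (by rw [LinearMap.map_smulₛₗ, LinearMap.smul_apply, hfe, hH1, Q.hσ2, smul_eq_mul, mul_one])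
    (by
      simp only [LinearMap.map_smulₛₗ, LinearMap.smul_apply, smul_eq_mul, RingHom.id_apply, hze, hH1, hH2, Q.hσ2]
      linear_combination α * Q.trα - hαn - (α + 1) * h11 - Q.trα)
    (by rw [map_smul, hfz, hH1, smul_eq_mul, mul_one])
  have hc1 : (1 : F) + σ 1 = 0 := by rw [map_one]; linear_combination h11
  obtain ⟨h, hh, hhd, hseed⟩ := Q.exists_seed hc1
  refine ⟨g, hg, hgd, h, hh, hhd, fun P hP hu hv hw => ?_⟩
  rw [hseed] at hw
  set v := g * Q.u * g⁻¹
  have hc' : Herm.qrefl Q.eps 1 (cond_of_tr Q.B_eps_eps hc1) ∈ P := by simpa using P.mul_mem (P.inv_mem hu) hw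
  have hεG : Good B P Q.eps := ⟨Q.B_eps_eps, fun c hc => by
    rcases h2 c (by linear_combination tr_of_cond Q.B_eps_eps hc - c * h11) with rfl | rfl
    · have : Herm.qrefl (B := B) Q.eps (0 : F) hc = 1 := LinearEquiv.ext fun x => by simp
      rw [this]; exact P.one_mem
    · exact hc'⟩
  have hfG : Good B P f := hv0 ▸ good_map hP hv (good_smul Q.hσ2 hεG (σ α))
  have hzG : Good B P z := by
    have := good_smul Q.hσ2 (good_map hP hv hfG) α⁻¹
    rwa [hv1, inv_smul_smul₀ hα0] at this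
  refine Q.top_of_double hP hu h2 hm2 hεG hfG hfe hfN (ξ := ξ) ?_
  have h3 := good_map hP (hfG.2 1 (cond_of_tr hff hc1)) hzG
  convert h3 using 1
  rw [Herm.qrefl_apply, one_mul, hfz, one_smul, hz]
  linear_combination (norm := module) -(h11 • f)

end HModel

end Cfsg.Lib.Linear.SUThree
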