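import Cfsg.Agent.Lib.Linear.SUThree.Small
import Cfsg.Agent.Lib.Linear.TwoReg.Core
import Cfsg.Agent.Lib.Spec.UnitaryThreeSinger
import Cfsg.Agent.Lib.Linear.PSUSimple

/-!
# The standard unitary space carries a regular unipotent model
-/

set_option autoImplicit false

namespace Cfsg.Lib.Linear.SUThree

open Module Matrix Cfsg.Lib.Linear Cfsg.Lib.Linear.TwoReg Cfsg.Lib.Linear.TVec Cfsg.Lib.Linear.AutPSL
  Cfsg.Lib.Linear.MinIndex Cfsg.Lib.Linear.RegUnipotentGen

variable {F : Type*} [Field F]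

/-- A combination of two shifted binomial coefficients. -/
def comb2 (a b : F) (c d : ℤ) (j : ℕ) : ℤ → F := fun k =>
  a * ((Ring.choose (k + c) j : ℤ) : F) + b * ((Ring.choose (k + d) j : ℤ) : F)

theorem fwdDiff_comb2 (a b : F) (c d : ℤ) (j : ℕ) :
    (fwdDiff (1 : ℤ))^[j] (comb2 a b c d j) = fun _ => a + b := by
  induction j with
  | zero => funext k; simp [comb2, Ring.choose_zero_right]
  | succ j ih =>
    rw [Function.iterate_succ_apply]
    convert ih using 2
    funext k
    simp only [fwdDiff, comb2]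
    rw [show k + 1 + c = k + c + 1 by ring, show k + 1 + d = k + d + 1 by ring, Ring.choose_succ_succ,
      Ring.choose_succ_succ]
    push_cast
    ring

theorem fwdDiff_comb2_succ (a b : F) (c d : ℤ) (j : ℕ) :
    (fwdDiff (1 : ℤ))^[j + 1] (comb2 a b c d j) = 0 := by
  rw [Function.iterate_succ_apply', fwdDiff_comb2]
  funext k
  simp [fwdDiff]

/-- The Toeplitz coefficients of the invariant Hermitian form. -/
def phiH (σ : F →+* F) (α : F) (m : ℕ) : ℤ → F := comb2 α (σ α) (m : ℤ) ((m : ℤ) - 1) (2 * m)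

variable {σ : F →+* F} {α : F} {m : ℕ}

theorem phiH_neg (hσ2 : ∀ a, σ (σ a) = a) (k : ℤ) : phiH σ α m (-k) = σ (phiH σ α m k) := by
  simp only [phiH, comb2, map_add, map_mul, map_intCast, hσ2]
  rw [show -k + (m : ℤ) = -(k - m) by ring, show -k + ((m : ℤ) - 1) = -(k - m + 1) by ring, Ring.choose_neg,
    Ring.choose_neg, show k - (m : ℤ) + ((2 * m : ℕ) : ℤ) - 1 = k + ((m : ℤ) - 1) by push_cast; ring,
    show k - (m : ℤ) + 1 + ((2 * m : ℕ) : ℤ) - 1 = k + (m : ℤ) by push_cast; ring,
    Int.negOnePow_even _ (show Even ((2 * m : ℕ) : ℤ) from ⟨(m : ℤ), by push_cast; ring⟩), one_smul, one_smul]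
  ring

theorem choose_small {x : ℤ} {j : ℕ} (h1 : 0 ≤ x) (h2 : x < j) : Ring.choose x j = (0 : ℤ) := by
  obtain ⟨i, rfl⟩ := Int.eq_ofNat_of_zero_le h1
  rw [Ring.choose_natCast, Nat.choose_eq_zero_of_lt (by omega), Nat.cast_zero]

theorem phiH_zero {k : ℤ} (h1 : -(m : ℤ) < k) (h2 : k < m) : phiH σ α m k = 0 := by
  simp only [phiH, comb2]
  rw [choose_small (by omega) (by omega), choose_small (by omega) (by omega)]
  simp

theorem phiH_self (hm : 1 ≤ m) : phiH σ α m (m : ℤ) = α := by
  simp only [phiH, comb2]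
  rw [show (m : ℤ) + (m : ℤ) = ((2 * m : ℕ) : ℤ) by push_cast; ring, Ring.choose_natCast, Nat.choose_self,
    choose_small (x := (m : ℤ) + ((m : ℤ) - 1)) (by omega) (by omega)]
  simp

variable (σ α m) in
/-- The invariant Hermitian form. -/
noncomputable def hform : (Fin (2 * m + 1) → F) →ₛₗ[σ] (Fin (2 * m + 1) → F) →ₗ[F] F :=
  LinearMap.mk₂'ₛₗ σ (RingHom.id F)
    (fun x y => ∑ i : Fin (2 * m + 1), ∑ l : Fin (2 * m + 1), σ (x i) * phiH σ α m ((l.val : ℤ) - i.val) * y l)
    (fun x x' y => by simp [add_mul, Finset.sum_add_distrib])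
    (fun c x y => by simp [Finset.mul_sum, mul_assoc])
    (fun x y y' => by simp [mul_add, Finset.sum_add_distrib])
    (fun c x y => by simp [Finset.mul_sum, mul_left_comm])

theorem hform_bas {i l : ℕ} (hi : i < 2 * m + 1) (hl : l < 2 * m + 1) :
    hform σ α m (bas i) (bas l) = phiH σ α m ((l : ℤ) - i) := by
  simp only [hform, LinearMap.mk₂'ₛₗ_apply]
  rw [Finset.sum_eq_single ⟨i, hi⟩, Finset.sum_eq_single ⟨l, hl⟩]
  · simp [bas_apply]
  · intro b _ hb
    simp [bas_apply, Fin.val_ne_iff.2 hb]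
  · simp
  · intro b _ hb
    simp [bas_apply, Fin.val_ne_iff.2 hb]
  · simp

theorem hform_symm (hσ2 : ∀ a, σ (σ a) = a) : (hform σ α m).IsSymm := ⟨fun x y => by
  simp only [hform, LinearMap.mk₂'ₛₗ_apply, map_sum, map_mul, hσ2]
  rw [Finset.sum_comm]
  refine Finset.sum_congr rfl fun i _ => Finset.sum_congr rfl fun l _ => ?_
  rw [← phiH_neg hσ2, neg_sub]
  ring⟩

theorem bas_single {N : ℕ} (i : Fin N) : (bas i.val : Fin N → F) = Pi.single i 1 := by
  funext k
  simp [bas_apply, Pi.single_apply, Fin.ext_iff]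

theorem hform_diff : ∀ k i, i + k ≤ 2 * m →
    hform σ α m (bas 0) (((cm (2 * m + 1) F - 1) ^ k) *ᵥ bas i) = (fwdDiff (1 : ℤ))^[k] (phiH σ α m) (i : ℤ) := by
  intro k
  induction k with
  | zero => intro i hi; simp [hform_bas (show 0 < 2 * m + 1 by omega) (show i < 2 * m + 1 by omega)]
  | succ k ih =>
    intro i hi
    rw [pow_succ, ← mulVec_mulVec, sub_mulVec, one_mulVec, cm_bas (show i + 1 < 2 * m + 1 by omega), mulVec_sub,
      map_sub, ih (i + 1) (by omega), ih i (by omega), Function.iterate_succ_apply', fwdDiff]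
    push_cast
    rfl

theorem hform_last (y : ℤ) :
    ∑ k : Fin (2 * m + 1), cc (2 * m + 1) F k.val * phiH σ α m (y + (k.val : ℤ)) =
      phiH σ α m (y + ((2 * m + 1 : ℕ) : ℤ)) := by
  have h := fwdDiff_iter_eq_sum_shift (1 : ℤ) (phiH σ α m) (2 * m + 1) y
  rw [show (fwdDiff (1 : ℤ))^[2 * m + 1] (phiH σ α m) = 0 from fwdDiff_comb2_succ _ _ _ _ _, Pi.zero_apply,
    Finset.sum_range_succ, ← Fin.sum_univ_eq_sum_range] at h
  simp only [zsmul_eq_mul, Nat.smul_one_eq_cast, Nat.sub_self, pow_zero, Nat.choose_self, Nat.cast_one, one_mul,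
    Int.cast_one] at h
  push_cast at h ⊢
  have e : ∑ k : Fin (2 * m + 1), cc (2 * m + 1) F k.val * phiH σ α m (y + (k.val : ℤ)) =
      -∑ k : Fin (2 * m + 1), (-1 : F) ^ (2 * m + 1 - k.val) * ((2 * m + 1).choose k.val : F) *
        phiH σ α m (y + (k.val : ℤ)) := by
    rw [← Finset.sum_neg_distrib]
    refine Finset.sum_congr rfl fun k _ => ?_
    rw [cc]
    ring
  rw [e]
  linear_combination h

theorem hform_bas_right {i : ℕ} (hi : i < 2 * m + 1) (y : Fin (2 * m + 1) → F) :
    hform σ α m (bas i) y = ∑ l : Fin (2 * m + 1), phiH σ α m ((l.val : ℤ) - i) * y l := by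
  simp only [hform, LinearMap.mk₂'ₛₗ_apply]
  rw [Finset.sum_eq_single ⟨i, hi⟩]
  · simp [bas_apply]
  · intro b _ hb
    simp [bas_apply, Fin.val_ne_iff.2 hb]
  · simp

theorem cm_last' : cm (2 * m + 1) F *ᵥ bas (2 * m) = fun k : Fin (2 * m + 1) => cc (2 * m + 1) F k.val := by
  simpa using cm_last (F := F) (n := 2 * m + 1) (by omega)

theorem hform_inv (hσ2 : ∀ a, σ (σ a) = a) (hm : 1 ≤ m) (a b : Fin (2 * m + 1) → F) :
    hform σ α m (cm (2 * m + 1) F *ᵥ a) (cm (2 * m + 1) F *ᵥ b) = hform σ α m a b := by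
  have last : ∀ i, i < 2 * m + 1 → hform σ α m (bas i) (cm (2 * m + 1) F *ᵥ bas (2 * m)) =
      phiH σ α m (((2 * m + 1 : ℕ) : ℤ) - i) := by
    intro i hi
    rw [hform_bas_right hi, cm_last',
      show ((2 * m + 1 : ℕ) : ℤ) - (i : ℤ) = -(i : ℤ) + ((2 * m + 1 : ℕ) : ℤ) by ring, ← hform_last]
    refine Finset.sum_congr rfl fun l _ => ?_
    rw [show (l.val : ℤ) - i = -(i : ℤ) + l.val by ring, mul_comm]
  have pair : ∀ i l, i ≤ l → l < 2 * m + 1 →
      hform σ α m (cm (2 * m + 1) F *ᵥ bas i) (cm (2 * m + 1) F *ᵥ bas l) = hform σ α m (bas i) (bas l) := by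
    intro i l hil hl
    rw [hform_bas (show i < 2 * m + 1 by omega) hl]
    rcases Nat.lt_or_ge (l + 1) (2 * m + 1) with h | h
    · rw [cm_bas (show i + 1 < 2 * m + 1 by omega), cm_bas h, hform_bas (by omega) h]
      congr 1; push_cast; ring
    obtain rfl : l = 2 * m := by omega
    rcases Nat.lt_or_ge i (2 * m) with hlt | hge
    · rw [cm_bas (show i + 1 < 2 * m + 1 by omega), last (i + 1) (by omega)]
      congr 1; push_cast; ring
    obtain rfl : i = 2 * m := by omega
    set c := cm (2 * m + 1) F *ᵥ bas (2 * m) with hc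
    have hck : ∀ k : Fin (2 * m + 1), c k = cc (2 * m + 1) F k.val := fun k => by
      rw [hc, cm_last']
    have hsum : c = ∑ k : Fin (2 * m + 1), cc (2 * m + 1) F k.val • (bas k.val : Fin (2 * m + 1) → F) := by
      funext j
      rw [hck, Finset.sum_apply, Finset.sum_eq_single j] <;> simp [bas_apply, Fin.val_ne_iff, eq_comm]
      intro b hb; simp [Fin.val_ne_iff.2 hb, Fin.val_ne_iff.2 (Ne.symm hb)]
    have hcσ : ∀ k, σ (cc (2 * m + 1) F k) = cc (2 * m + 1) F k := fun k => by simp [cc]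
    calc hform σ α m c c = ∑ k : Fin (2 * m + 1), cc (2 * m + 1) F k.val * hform σ α m (bas k.val) c := by
          nth_rw 1 [hsum]
          simp only [map_sum, LinearMap.map_smulₛₗ, LinearMap.sum_apply, LinearMap.smul_apply, smul_eq_mul, hcσ]
      _ = σ (∑ k : Fin (2 * m + 1), cc (2 * m + 1) F k.val * phiH σ α m (-((2 * m + 1 : ℕ) : ℤ) + k.val)) := by
          rw [map_sum]
          refine Finset.sum_congr rfl fun k _ => ?_
          rw [hc, last k.val k.isLt, map_mul, hcσ, ← phiH_neg hσ2]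
          congr 2; ring
      _ = _ := by
          rw [hform_last, neg_add_cancel, phiH_zero (by omega) (by omega), map_zero, sub_self,
            phiH_zero (by omega) (by omega)]
  have he : ∀ i l : Fin (2 * m + 1), hform σ α m (cm (2 * m + 1) F *ᵥ bas i.val) (cm (2 * m + 1) F *ᵥ bas l.val) =
      hform σ α m (bas i.val) (bas l.val) := by
    intro i l
    rcases le_total i.val l.val with h | h
    · exact pair _ _ h l.isLt
    · rw [← (hform_symm hσ2).eq, pair _ _ h i.isLt, (hform_symm hσ2).eq]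
  have ha : ∀ x : Fin (2 * m + 1) → F, x = ∑ i : Fin (2 * m + 1), x i • (bas i.val : Fin (2 * m + 1) → F) := fun x => by
    funext j
    rw [Finset.sum_apply, Finset.sum_eq_single j] <;> simp [bas_apply]
    intro b hb; simp [Fin.val_ne_iff.2 (Ne.symm hb)]
  conv_lhs => rw [ha a, ha b]
  conv_rhs => rw [ha a, ha b]
  simp only [mulVec_sum, mulVec_smul, map_sum, map_smul, LinearMap.map_smulₛₗ, LinearMap.sum_apply,
    LinearMap.smul_apply, he]

theorem fixed_last_zero {N : ℕ} (hN : 0 < N) {w : Fin N → F} (hw : cm N F *ᵥ w = w)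
    (h0 : w ⟨N - 1, by omega⟩ = 0) : w = 0 := by
  funext j
  obtain ⟨j, hj⟩ := j
  induction j with
  | zero =>
    have := congrFun hw ⟨0, hj⟩
    rw [cm_apply hN, h0] at this
    simpa using this.symm
  | succ j ih =>
    have := congrFun hw ⟨j + 1, hj⟩
    rw [cm_apply hN, h0, zero_mul, add_zero, dif_pos (Nat.succ_pos j)] at this
    rw [← this]
    exact ih (by omega)

theorem hform_nondeg [Finite F] (hσ2 : ∀ a, σ (σ a) = a) (hm : 1 ≤ m) (htr : α + σ α = 1) :
    (hform σ α m).Nondegenerate := by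
  classical
  set U := (cm (2 * m + 1) F).mulVecLin
  set ε := ((cm (2 * m + 1) F - 1) ^ (2 * m)) *ᵥ (bas 0 : Fin (2 * m + 1) → F) with hε
  have hUε : cm (2 * m + 1) F *ᵥ ε = ε := by
    rw [← sub_eq_zero]
    calc cm (2 * m + 1) F *ᵥ ε - ε = (cm (2 * m + 1) F - 1) *ᵥ ε := by rw [sub_mulVec, one_mulVec]
      _ = 0 := by rw [hε, mulVec_mulVec, ← pow_succ', cm_sub_one_pow, zero_mulVec]
  have he : hform σ α m (bas 0) ε = 1 := by
    rw [hε, hform_diff _ 0 (by omega), phiH, fwdDiff_comb2]
    exact htr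
  have hε0 : ε ⟨2 * m + 1 - 1, by omega⟩ ≠ 0 := fun h => by
    rw [fixed_last_zero (by omega) hUε h, map_zero] at he
    exact zero_ne_one he
  have hsurj : ∀ y : Fin (2 * m + 1) → F, ∃ x, cm (2 * m + 1) F *ᵥ x = y := by
    have hu : IsUnit (cm (2 * m + 1) F) := (Matrix.isUnit_iff_isUnit_det _).2 (by rw [det_cm]; exact isUnit_one)
    exact Matrix.mulVec_surjective_iff_isUnit.2 hu
  have key : ∀ v, (∀ w, hform σ α m v w = 0) → v = 0 := by
    intro v hv
    by_contra hne
    have hU : ∀ v, (∀ w, hform σ α m v w = 0) → ∀ w, hform σ α m ((cm (2 * m + 1) F - 1) *ᵥ v) w = 0 := by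
      intro v hv w
      obtain ⟨x, rfl⟩ := hsurj w
      rw [sub_mulVec, one_mulVec, map_sub, LinearMap.sub_apply, hform_inv hσ2 hm, hv, hv, sub_self]
    have hk : ∀ k, ∀ w, hform σ α m (((cm (2 * m + 1) F - 1) ^ k) *ᵥ v) w = 0 := by
      intro k
      induction k with
      | zero => simpa using hv
      | succ k ih => rw [pow_succ', ← mulVec_mulVec]; exact hU _ ih
    have hex : ∃ k, ((cm (2 * m + 1) F - 1) ^ k) *ᵥ v = 0 := ⟨2 * m + 1, by rw [cm_sub_one_pow, zero_mulVec]⟩
    have hpos : Nat.find hex ≠ 0 := fun h => by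
      have := Nat.find_spec hex
      rw [h, pow_zero, one_mulVec] at this
      exact hne this
    set w := ((cm (2 * m + 1) F - 1) ^ (Nat.find hex - 1)) *ᵥ v with hw
    have hw0 : w ≠ 0 := Nat.find_min hex (show Nat.find hex - 1 < Nat.find hex by omega)
    have hUw : cm (2 * m + 1) F *ᵥ w = w := by
      have := Nat.find_spec hex
      rw [show Nat.find hex = Nat.find hex - 1 + 1 by omega, pow_succ', ← mulVec_mulVec, ← hw, sub_mulVec, one_mulVec,
        sub_eq_zero] at this
      exact this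
    set t := w ⟨2 * m + 1 - 1, by omega⟩ / ε ⟨2 * m + 1 - 1, by omega⟩
    have hwt : w - t • ε = 0 := fixed_last_zero (by omega) (by rw [mulVec_sub, mulVec_smul, hUw, hUε])
      (by simp only [Pi.sub_apply, Pi.smul_apply, smul_eq_mul, t]; rw [div_mul_cancel₀ _ hε0, sub_self])
    rw [sub_eq_zero] at hwt
    have h1 : hform σ α m w (bas 0) = 0 := hk _ _
    have h2 : hform σ α m ε (bas 0) = 1 := by
      rw [← (hform_symm hσ2).eq, he, map_one]
    rw [hwt, LinearMap.map_smulₛₗ, LinearMap.smul_apply, h2, smul_eq_mul, mul_one, map_eq_zero] at h1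
    exact hw0 (by rw [hwt, h1, zero_smul])
  exact ⟨key, fun v hv => key v fun w => by rw [← (hform_symm hσ2).eq, hv, map_zero]⟩

/-- The standard unitary space carries a model with any prescribed parameter of trace one. -/
theorem exists_model [Fintype F] {q : ℕ} (hF : Fintype.card F = q ^ 2) (hm : 1 ≤ m)
    (htr : α + Herm.frob hF α = 1) : Nonempty (HModel m α (Herm.hB hF (2 * m + 1))) := by
  classical
  set σ := Herm.frob hF
  have hσ2 : ∀ a, σ (σ a) = a := Herm.frob_frob hF
  obtain ⟨b, hb⟩ := Spec.UThree.exists_orthonormal_basis_herm hF (Module.finrank_fin_fun (n := 2 * m + 1) F)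
    (hform σ α m) (hform_symm hσ2) (hform_nondeg hσ2 hm htr)
  let L : (Fin (2 * m + 1) → F) ≃ₗ[F] (Fin (2 * m + 1) → F) := b.equivFun.symm
  have hL : ∀ x y, hform σ α m (L x) (L y) = Herm.hB hF (2 * m + 1) x y := fun x y => by
    simp only [L, Basis.equivFun_symm_apply, map_sum, map_smul, LinearMap.map_smulₛₗ, LinearMap.sum_apply,
      LinearMap.smul_apply, hb, Herm.hB_apply, Cfsg.hermForm, smul_eq_mul, mul_ite, mul_one, mul_zero,
      Finset.sum_ite_eq, Finset.mem_univ, if_true, RingHom.id_apply, σ, Herm.frob_apply]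
    simp [mul_comm]
  have hLs : ∀ a b, Herm.hB hF (2 * m + 1) (L.symm a) (L.symm b) = hform σ α m a b := fun a b => by
    rw [← hL, L.apply_symm_apply, L.apply_symm_apply]
  obtain ⟨U, hU, -, hUa⟩ := exists_iso_of_preserves (hform_nondeg (α := α) hσ2 hm htr)
    (cm (2 * m + 1) F).mulVecLin (hform_inv hσ2 hm)
  let u : (Fin (2 * m + 1) → F) ≃ₗ[F] (Fin (2 * m + 1) → F) := (L.trans U).trans L.symm
  have hua : ∀ x, u x = L.symm (cm (2 * m + 1) F *ᵥ L x) := fun x => congrArg L.symm (hUa _)
  have hpow : ∀ (k : ℕ), (u ^ k) (L.symm (bas 0)) = L.symm ((cm (2 * m + 1) F ^ k) *ᵥ bas 0) := by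
    intro k
    induction k with
    | zero => simp
    | succ k ih => rw [pow_succ', LinearEquiv.mul_apply, ih, hua, L.apply_symm_apply, mulVec_mulVec, pow_succ']
  refine ⟨{
    u := u
    e := L.symm (bas 0)
    m1 := hm
    hσ := Herm.frob_ne_id hF
    hσ2 := hσ2
    hS := Herm.hB_isSymm hF _
    hB := Herm.hB_nondegenerate hF _
    dim := Module.finrank_fin_fun _
    trα := htr
    hu := fun a b => by rw [hua, hua, hLs, hform_inv hσ2 hm, hL]
    nil := ?_
    cyc := ?_
    low := fun i l hi hl => ?_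
    mid := fun i hi => ?_ }⟩
  · have h : ∀ k, (((u : (Fin (2 * m + 1) → F) →ₗ[F] _) - 1 : Module.End F _) ^ k) (L.symm (bas 0)) =
        L.symm (((cm (2 * m + 1) F - 1) ^ k) *ᵥ bas 0) := by
      intro k
      induction k with
      | zero => simp
      | succ k ih =>
        rw [pow_succ', Module.End.mul_apply, ih]
        show u _ - _ = _
        rw [hua, L.apply_symm_apply, Module.End.one_apply, ← map_sub, pow_succ', ← mulVec_mulVec, sub_mulVec,
          one_mulVec]
    rw [h, cm_sub_one_pow, zero_mulVec, map_zero]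
  · have h : Submodule.span F (Set.range fun i : Fin (2 * m + 1) => L.symm (Pi.single i 1)) = ⊤ := by
      have hb := ((Pi.basisFun F (Fin (2 * m + 1))).map L.symm).span_eq
      convert hb using 3
      funext i
      simp
    rw [eq_top_iff, ← h, Submodule.span_le]
    rintro _ ⟨i, rfl⟩
    refine Submodule.subset_span ⟨i.val, ?_⟩
    show (u ^ i.val) (L.symm (bas 0)) = _
    rw [hpow, cm_pow_bas i.isLt, bas_single]
  · rw [hpow, hpow, hLs, cm_pow_bas (by omega), cm_pow_bas (by omega), hform_bas (by omega) (by omega),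
      phiH_zero (by omega) (by omega)]
  · rw [hpow, hpow, hLs, cm_pow_bas (by omega), cm_pow_bas (by omega), hform_bas (by omega) (by omega)]
    split_ifs with h
    · subst h; rw [Nat.cast_zero, sub_zero, phiH_self hm]
    · rw [phiH_zero (by omega) (by omega)]

/-- The cube of a generator of the norm-one group generates the field, away from the orders `2`, `5` and `8`. -/
theorem closure_cube_eq_top [Fintype F] {q : ℕ} (hF : Fintype.card F = q ^ 2) (hq : 3 ≤ q) (h5 : q ≠ 5) (h8 : q ≠ 8)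
    {β : Fˣ} (hβ : orderOf β = q + 1) : Subfield.closure ({(β : F) ^ 3} : Set F) = ⊤ := by
  classical
  set k := Subfield.closure ({(β : F) ^ 3} : Set F) with hk
  by_contra hne
  set r := Fintype.card k with hr
  have hcard : Fintype.card F = r ^ finrank k F := Module.card_eq_pow_finrank
  have hd : 2 ≤ finrank k F := by
    by_contra hlt
    have h1 : Fintype.card F ≤ r := by
      have hk1 : 1 ≤ r := Fintype.card_pos
      rcases (show finrank k F = 0 ∨ finrank k F = 1 by omega) with e | e <;> rw [e] at hcard <;> simp at hcard <;> omega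
    apply hne
    ext a
    simp only [Subfield.mem_top, iff_true]
    have hb := (Fintype.bijective_iff_injective_and_card (Subtype.val : k → F)).2
      ⟨Subtype.val_injective, le_antisymm (Fintype.card_le_of_injective _ Subtype.val_injective) h1⟩
    obtain ⟨⟨b, hb'⟩, rfl⟩ := hb.2 a
    exact hb'
  have hr2 : 2 ≤ r := Fintype.one_lt_card
  rw [hF] at hcard
  let g : k := ⟨(β : F) ^ 3, Subfield.subset_closure (Set.mem_singleton _)⟩
  have hg : g ≠ 0 := fun h => by simpa [g] using congrArg Subtype.val h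
  have h3 := FiniteField.pow_card_sub_one_eq_one g hg
  have h4 : β ^ (3 * (r - 1)) = 1 := by
    ext
    rw [Units.val_pow_eq_pow_val, Units.val_one, pow_mul]
    simpa [g] using congrArg Subtype.val h3
  have h6 := orderOf_dvd_of_pow_eq_one h4
  rw [hβ] at h6
  have h7 := Nat.le_of_dvd (by omega) h6
  rcases (show finrank k F = 2 ∨ finrank k F = 3 ∨ 4 ≤ finrank k F by omega) with e | e | e
  · rw [e] at hcard
    have hrq : r = q := Nat.pow_left_injective two_ne_zero hcard.symm
    rw [hrq] at h6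
    have h9 : q + 1 ∣ 6 := by
      have h10 := Nat.dvd_sub (dvd_mul_left (q + 1) 3) h6
      rwa [show 3 * (q + 1) - 3 * (q - 1) = 6 by omega] at h10
    have h11 := Nat.le_of_dvd (by omega) h9
    have : q ≤ 5 := by omega
    interval_cases q <;> omega
  · rw [e] at hcard
    have hlt : r < 9 := by
      have h8' : q < 3 * r := by omega
      by_contra hge
      have : 9 * r ^ 2 ≤ r ^ 3 := by rw [pow_succ r 2, mul_comm 9]; exact Nat.mul_le_mul_left _ (by omega)
      nlinarith
    have hq23 : q < 23 := by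
      by_contra hge
      have : r ^ 3 ≤ 8 ^ 3 := Nat.pow_le_pow_left (by omega) _
      have : 23 * 23 ≤ q * q := Nat.mul_le_mul (by omega) (by omega)
      nlinarith
    interval_cases r <;> interval_cases q <;> omega
  · have h9 : r ^ 4 ≤ q ^ 2 := by rw [hcard]; exact Nat.pow_le_pow_right (by omega) e
    have h10 : r * r ≤ q := by
      by_contra hlt
      have : q * q < (r * r) * (r * r) := Nat.mul_self_lt_mul_self (by omega)
      nlinarith
    have h11 : r * r + 4 ≤ 3 * r := by omega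
    nlinarith

end Cfsg.Lib.Linear.SUThree
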