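import Cfsg.Agent.Lib.Linear.Hermitian

/-!
# A unitary space of odd dimension with a regular unipotent isometry
-/

set_option autoImplicit false

namespace Cfsg.Lib.Linear.SUThree

open Module

variable {F V : Type*} [Field F] [AddCommGroup V] [Module F V] {σ : F →+* F} {B : V →ₛₗ[σ] V →ₗ[F] F}

/-- A regular unipotent isometry of a unitary space of dimension `2 m + 1`, with a cyclic vector. -/
structure HModel (m : ℕ) (α : F) (B : V →ₛₗ[σ] V →ₗ[F] F) where
  u : V ≃ₗ[F] V
  e : V
  m1 : 1 ≤ m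
  hσ : σ ≠ RingHom.id F
  hσ2 : ∀ a, σ (σ a) = a
  hS : B.IsSymm
  hB : B.Nondegenerate
  dim : finrank F V = 2 * m + 1
  trα : α + σ α = 1
  hu : u ∈ Herm.iso B
  nil : (((u : V →ₗ[F] V) - 1 : Module.End F V) ^ (2 * m + 1)) e = 0
  cyc : Submodule.span F (Set.range fun k : ℕ => (u ^ k) e) = ⊤
  low : ∀ i l, i < m → l < m → B ((u ^ i) e) ((u ^ l) e) = 0
  mid : ∀ i, i < m → B ((u ^ i) e) ((u ^ m) e) = if i = 0 then α else 0

namespace HModel

variable {m : ℕ} {α : F} (Q : HModel m α B)

/-- The nilpotent part. -/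
def N : Module.End F V := (Q.u : V →ₗ[F] V) - 1

/-- The vectors `(u - 1) ^ a e`. -/
def E (a : ℕ) : V := (Q.N ^ a) Q.e

/-- The fixed vector. -/
def eps : V := Q.E (2 * m)

theorem N_apply (x : V) : Q.N x = Q.u x - x := rfl

theorem u_apply (x : V) : Q.u x = x + Q.N x := by rw [N_apply, add_sub_cancel]

theorem E_zero : Q.E 0 = Q.e := rfl

theorem E_add (a b : ℕ) : Q.E (a + b) = (Q.N ^ a) (Q.E b) := by
  rw [E, E, ← Module.End.mul_apply, ← pow_add]

theorem Npow_E (k a : ℕ) : (Q.N ^ k) (Q.E a) = Q.E (k + a) := (Q.E_add k a).symm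

theorem N_E (a : ℕ) : Q.N (Q.E a) = Q.E (a + 1) := by
  rw [add_comm, E_add, pow_one]

theorem u_E (a : ℕ) : Q.u (Q.E a) = Q.E a + Q.E (a + 1) := by rw [u_apply, N_E]

theorem E_eq_zero {a : ℕ} (h : 2 * m + 1 ≤ a) : Q.E a = 0 := by
  obtain ⟨d, rfl⟩ := Nat.exists_eq_add_of_le h
  rw [add_comm, E_add, show Q.E (2 * m + 1) = 0 from Q.nil, map_zero]

theorem u_eps : Q.u Q.eps = Q.eps := by
  rw [eps, u_E, E_eq_zero Q (show 2 * m + 1 ≤ 2 * m + 1 by omega), add_zero]

theorem N_eps : Q.N Q.eps = 0 := by rw [N_apply, u_eps, sub_self]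

theorem upow_eps (k : ℕ) : (Q.u ^ k) Q.eps = Q.eps := by
  induction k with
  | zero => rfl
  | succ k ih => rw [pow_succ, LinearEquiv.mul_apply, u_eps, ih]

theorem pow_succ_apply (i : ℕ) (x : V) : (Q.u ^ (i + 1)) x = (Q.u ^ i) x + (Q.u ^ i) (Q.N x) := by
  rw [pow_succ, LinearEquiv.mul_apply, u_apply, map_add]

theorem u_inv (x y : V) : B (Q.u x) (Q.u y) = B x y := Q.hu x y

theorem adj (x y : V) : B (Q.N x) y + B x (Q.N y) + B (Q.N x) (Q.N y) = 0 := by
  have h := Q.u_inv x y
  simp only [u_apply, map_add, LinearMap.add_apply] at h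
  linear_combination h

include Q in
theorem symm (x y : V) : σ (B x y) = B y x := Q.hS.eq x y

theorem span_E : Submodule.span F (Set.range fun a : Fin (2 * m + 1) => Q.E a.val) = ⊤ := by
  set S := Submodule.span F (Set.range fun a : Fin (2 * m + 1) => Q.E a.val)
  have hmem : ∀ a, Q.E a ∈ S := fun a => by
    rcases Nat.lt_or_ge a (2 * m + 1) with h | h
    · exact Submodule.subset_span ⟨⟨a, h⟩, rfl⟩
    · rw [Q.E_eq_zero h]; exact S.zero_mem
  rw [eq_top_iff, ← Q.cyc, Submodule.span_le]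
  rintro _ ⟨k, rfl⟩
  suffices ∀ a, (Q.u ^ k) (Q.E a) ∈ S from this 0
  induction k with
  | zero => exact hmem
  | succ k ih =>
    intro a
    show (Q.u ^ (k + 1)) (Q.E a) ∈ S
    rw [pow_succ_apply, N_E]
    exact S.add_mem (ih a) (ih (a + 1))

/-- The basis `(u - 1) ^ a e`. -/
noncomputable def basis : Basis (Fin (2 * m + 1)) F V :=
  basisOfTopLeSpanOfCardEqFinrank (fun a : Fin (2 * m + 1) => Q.E a.val) Q.span_E.ge (by rw [Q.dim, Fintype.card_fin])

theorem basis_apply (a : Fin (2 * m + 1)) : Q.basis a = Q.E a.val :=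
  congrFun (coe_basisOfTopLeSpanOfCardEqFinrank _ _ _) a

theorem N_pow {k : ℕ} (hk : 2 * m + 1 ≤ k) : Q.N ^ k = 0 :=
  Q.basis.ext fun a => by
    rw [basis_apply, LinearMap.zero_apply, ← E_add]
    exact Q.E_eq_zero (le_trans hk (Nat.le_add_right _ _))

/-- The form on the basis. -/
def G (a b : ℕ) : F := B (Q.E a) (Q.E b)

theorem G_swap (a b : ℕ) : Q.G b a = σ (Q.G a b) := (Q.symm _ _).symm

theorem G_rec (a b : ℕ) : Q.G (a + 1) b + Q.G a (b + 1) + Q.G (a + 1) (b + 1) = 0 := by
  have h := Q.adj (Q.E a) (Q.E b)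
  rwa [N_E, N_E] at h

theorem G_zero {a b : ℕ} (ha : a < m) (hb : b < m) : Q.G a b = 0 := by
  suffices ∀ a b i l, a + i < m → b + l < m → B ((Q.u ^ i) (Q.E a)) ((Q.u ^ l) (Q.E b)) = 0 by
    simpa [G] using this a b 0 0 (by omega) (by omega)
  intro a
  induction a with
  | zero =>
    intro b
    induction b with
    | zero => intro i l hi hl; exact Q.low i l (by omega) (by omega)
    | succ b ih =>
      intro i l hi hl
      have h1 := ih i (l + 1) hi (by omega)
      rw [pow_succ_apply, N_E, map_add, ih i l hi (by omega), zero_add] at h1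
      exact h1
  | succ a ih =>
    intro b i l hi hl
    have h1 := ih b (i + 1) l (by omega) hl
    rw [pow_succ_apply, N_E, map_add, LinearMap.add_apply, ih b i l (by omega) hl, zero_add] at h1
    exact h1

theorem G_m {a : ℕ} (ha : a < m) : Q.G a m = (-1) ^ a * α := by
  have h0 : ∀ b i l, i < m → l + b ≤ m → B ((Q.u ^ i) Q.e) ((Q.u ^ l) (Q.E b)) = if i = 0 ∧ l + b = m then α else 0 := by
    intro b
    induction b with
    | zero =>
      intro i l hi hl
      rcases Nat.lt_or_ge l m with h | h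
      · rw [if_neg (by omega)]; exact Q.low i l hi h
      · obtain rfl : l = m := by omega
        simp only [add_zero, and_true]
        exact Q.mid i hi
    | succ b ih =>
      intro i l hi hl
      have h1 := ih i (l + 1) hi (by omega)
      rw [pow_succ_apply, N_E, map_add, ih i l hi (by omega), if_neg (fun h : i = 0 ∧ l + b = m => by omega),
        zero_add, show l + 1 + b = l + (b + 1) by omega] at h1
      exact h1
  suffices ∀ a i, a + i < m → B ((Q.u ^ i) (Q.E a)) (Q.E m) = if i = 0 then (-1) ^ a * α else 0 by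
    simpa [G] using this a 0 (by omega)
  intro a
  induction a with
  | zero =>
    intro i hi
    simpa [E_zero] using h0 m i 0 (by omega) (by omega)
  | succ a ih =>
    intro i hi
    have h1 := ih (i + 1) (by omega)
    rw [pow_succ_apply, N_E, map_add, LinearMap.add_apply, ih i (by omega)] at h1
    simp only [Nat.succ_ne_zero, if_false] at h1
    split_ifs at h1 ⊢ with h
    · linear_combination h1
    · linear_combination h1

/-- Levels at least `2 m + 1` are orthogonal. -/
theorem B_high (x y : V) {a b : ℕ} (h : 2 * m + 1 ≤ a + b) : B ((Q.N ^ a) x) ((Q.N ^ b) y) = 0 := by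
  suffices ∀ d a b, 2 * m + 1 ≤ b + d → 2 * m + 1 ≤ a + b → B ((Q.N ^ a) x) ((Q.N ^ b) y) = 0 from
    this (2 * m + 1) a b (by omega) h
  intro d
  induction d with
  | zero => intro a b hb _; rw [Q.N_pow (k := b) (by omega), LinearMap.zero_apply, map_zero]
  | succ d ih =>
    intro a b hb hab
    rcases a with _ | a
    · rw [Q.N_pow (k := b) (by omega), LinearMap.zero_apply, map_zero]
    · have h1 := Q.adj ((Q.N ^ a) x) ((Q.N ^ b) y)
      simp only [← Module.End.mul_apply, ← pow_succ'] at h1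
      rw [ih a (b + 1) (by omega) (by omega), ih (a + 1) (b + 1) (by omega) (by omega)] at h1
      simpa using h1

theorem G_high {a b : ℕ} (h : 2 * m + 1 ≤ a + b) : Q.G a b = 0 := Q.B_high Q.e Q.e h

theorem B_step (x y : V) {a b : ℕ} (h : a + b = 2 * m - 1) :
    B ((Q.N ^ (a + 1)) x) ((Q.N ^ b) y) = -B ((Q.N ^ a) x) ((Q.N ^ (b + 1)) y) := by
  have hm := Q.m1
  have h1 := Q.adj ((Q.N ^ a) x) ((Q.N ^ b) y)
  simp only [← Module.End.mul_apply, ← pow_succ'] at h1
  rw [Q.B_high x y (show 2 * m + 1 ≤ a + 1 + (b + 1) by omega), add_zero] at h1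
  linear_combination h1

theorem G_top {a b : ℕ} (h : a + b = 2 * m) : Q.G a b = (-1) ^ a := by
  have hm := Q.m1
  have all : ∀ a b, a + b = 2 * m → Q.G a b = (-1) ^ a * Q.G 0 (2 * m) := by
    intro a
    induction a with
    | zero => intro b hb; rw [show b = 2 * m by omega, pow_zero, one_mul]
    | succ a ih =>
      intro b hb
      have h1 : Q.G (a + 1) b = -Q.G a (b + 1) := Q.B_step Q.e Q.e (by omega)
      rw [h1, ih (b + 1) (by omega), pow_succ]; ring
  have h1 := all m m (by omega)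
  have h2 := Q.G_rec (m - 1) (m - 1)
  rw [show m - 1 + 1 = m by omega, Q.G_swap (m - 1) m, Q.G_m (show m - 1 < m by omega), h1, map_mul, map_pow,
    map_neg, map_one] at h2
  have h3 : Q.G 0 (2 * m) = 1 := by
    have hne : ((-1 : F) ^ (m - 1)) ≠ 0 := pow_ne_zero _ (neg_ne_zero.2 one_ne_zero)
    refine mul_left_cancel₀ hne ?_
    have hm' : (-1 : F) ^ m = -(-1) ^ (m - 1) := by
      conv_lhs => rw [show m = m - 1 + 1 by omega, pow_succ]
      ring
    rw [hm'] at h2
    linear_combination -h2 + (-1 : F) ^ (m - 1) * Q.trα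
  rw [all a b h, h3, mul_one]

theorem G_sub {a b : ℕ} (h : a + b = 2 * m - 1) : Q.G a b = (-1) ^ a * (α + (m : F) - 1 - a) := by
  have hm := Q.m1
  have all : ∀ a b, a + b = 2 * m - 1 → Q.G a b = (-1) ^ a * (Q.G 0 (2 * m - 1) - a) := by
    intro a
    induction a with
    | zero => intro b hb; rw [show b = 2 * m - 1 by omega]; simp
    | succ a ih =>
      intro b hb
      have h1 := Q.G_rec a b
      rw [Q.G_top (a := a + 1) (b := b + 1) (by omega), ih (b + 1) (by omega), pow_succ] at h1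
      rw [pow_succ]
      push_cast
      linear_combination h1
  have h1 := all (m - 1) m (by omega)
  rw [Q.G_m (show m - 1 < m by omega), Nat.cast_sub hm, Nat.cast_one] at h1
  have h2 := mul_left_cancel₀ (pow_ne_zero _ (neg_ne_zero.2 one_ne_zero)) h1
  rw [all a b h]
  linear_combination (-(-1 : F) ^ a) * h2

theorem B_E_eps (a : ℕ) : B (Q.E a) Q.eps = if a = 0 then 1 else 0 := by
  show Q.G a (2 * m) = _
  split_ifs with h
  · subst h; rw [Q.G_top (by omega), pow_zero]
  · exact Q.G_high (by omega)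

theorem B_eps_E (a : ℕ) : B Q.eps (Q.E a) = if a = 0 then 1 else 0 := by
  rw [← Q.symm, B_E_eps]
  split_ifs <;> simp

theorem B_e_eps : B Q.e Q.eps = 1 := by simpa [E_zero] using Q.B_E_eps 0

theorem B_eps_e : B Q.eps Q.e = 1 := by simpa [E_zero] using Q.B_eps_E 0

theorem B_eps_eps : B Q.eps Q.eps = 0 := by
  have h := Q.B_E_eps (2 * m)
  rw [if_neg (by have := Q.m1; omega)] at h
  exact h

theorem B_eps_N (x : V) : B Q.eps (Q.N x) = 0 := by
  have h := Q.u_inv Q.eps x
  rw [u_eps, u_apply, map_add] at h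
  linear_combination h

theorem eps_ne : Q.eps ≠ 0 := fun h => by simpa [h] using Q.B_eps_e

theorem B_eps_u (x : V) : B Q.eps (Q.u x) = B Q.eps x := by
  nth_rw 1 [← Q.u_eps]
  exact Q.u_inv _ _

theorem decomp (x : V) : ∃ y, x = B Q.eps x • Q.e + Q.N y := by
  have h : (⊤ : Submodule F V) ≤ (LinearMap.range Q.N).comap
      (LinearMap.id - (B Q.eps).smulRight Q.e) := by
    rw [← Q.span_E, Submodule.span_le]
    rintro _ ⟨⟨a, ha⟩, rfl⟩
    show Q.E a - B Q.eps (Q.E a) • Q.e ∈ LinearMap.range Q.N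
    rw [B_eps_E]
    rcases a with _ | a
    · simp [E_zero]
    · exact ⟨Q.E a, by simp [N_E]⟩
  obtain ⟨y, hy⟩ := h (show x ∈ (⊤ : Submodule F V) from trivial)
  exact ⟨y, by rw [hy]; simp⟩

theorem N_pow_top (x : V) : (Q.N ^ (2 * m)) x = B Q.eps x • Q.eps := by
  obtain ⟨y, hy⟩ := Q.decomp x
  nth_rw 1 [hy]
  rw [map_add, map_smul, ← Module.End.mul_apply (Q.N ^ _) Q.N, ← pow_succ, Q.N_pow le_rfl,
    LinearMap.zero_apply, add_zero]
  rfl

/-- The middle level. -/
theorem B_mid (x y : V) {a b : ℕ} (h : a + b = 2 * m) :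
    B ((Q.N ^ a) x) ((Q.N ^ b) y) = (-1) ^ a * σ (B Q.eps x) * B Q.eps y := by
  have hm := Q.m1
  suffices ∀ a b, a + b = 2 * m → B ((Q.N ^ a) x) ((Q.N ^ b) y) = (-1) ^ a * σ (B Q.eps x) * B Q.eps y from
    this a b h
  intro a
  induction a with
  | zero =>
    intro b hb
    rw [show b = 2 * m by omega, N_pow_top, pow_zero, Module.End.one_apply, map_smul, smul_eq_mul, ← Q.symm Q.eps x]
    ring
  | succ a ih =>
    intro b hb
    rw [Q.B_step x y (by omega), ih (b + 1) (by omega), pow_succ]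
    ring

/-- A lower unitriangular map has determinant one. -/
theorem det_eq_one_of_tri (L : V →ₗ[F] V)
    (h : ∀ a, a ≤ 2 * m → L (Q.E a) - Q.E a ∈ LinearMap.range (Q.N ^ (a + 1))) : LinearMap.det L = 1 := by
  have hrepr : ∀ k (z : V) (i : Fin (2 * m + 1)), z ∈ LinearMap.range (Q.N ^ k) → i.val < k → Q.basis.repr z i = 0 := by
    intro k z i hz hik
    obtain ⟨y, rfl⟩ := hz
    have hsum : (Q.N ^ k) y = ∑ j, Q.basis.repr y j • (Q.N ^ k) (Q.E j.val) := by
      conv_lhs => rw [← Q.basis.sum_repr y]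
      simp only [map_sum, map_smul, basis_apply]
    rw [hsum, map_sum, Finsupp.finsetSum_apply]
    refine Finset.sum_eq_zero fun j _ => ?_
    rw [map_smul, Finsupp.smul_apply, Npow_E]
    rcases Nat.lt_or_ge (k + j.val) (2 * m + 1) with hj | hj
    · rw [show Q.E (k + j.val) = Q.basis ⟨k + j.val, hj⟩ from (Q.basis_apply ⟨k + j.val, hj⟩).symm,
        Basis.repr_self, Finsupp.single_eq_of_ne (fun e => by have := congrArg Fin.val e; simp at this; omega),
        smul_zero]
    · rw [Q.E_eq_zero hj, map_zero, Finsupp.zero_apply, smul_zero]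
  rw [← LinearMap.det_toMatrix Q.basis, Matrix.det_of_isLowerTriangular]
  · refine Finset.prod_eq_one fun i _ => ?_
    rw [LinearMap.toMatrix_apply, basis_apply]
    have h1 := hrepr _ _ i (h i.val (by omega)) (Nat.lt_succ_self _)
    rw [map_sub, Finsupp.sub_apply, sub_eq_zero, show Q.E i.val = Q.basis i from (Q.basis_apply i).symm,
      Basis.repr_self, Finsupp.single_eq_same] at h1
    rw [show Q.E i.val = Q.basis i from (Q.basis_apply i).symm]
    exact h1
  · intro i j hij
    have hij' : i.val < j.val := hij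
    rw [LinearMap.toMatrix_apply, basis_apply]
    have h1 := hrepr _ _ i (h j.val (by omega)) (show i.val < j.val + 1 by omega)
    rw [map_sub, Finsupp.sub_apply, sub_eq_zero] at h1
    rw [h1, show Q.E j.val = Q.basis j from (Q.basis_apply j).symm, Basis.repr_self]
    exact Finsupp.single_eq_of_ne (fun e => by rw [e] at hij'; omega)

theorem det_u : LinearEquiv.det Q.u = 1 := by
  refine Units.ext ?_
  rw [LinearEquiv.coe_det, Units.val_one]
  refine Q.det_eq_one_of_tri _ fun a _ => ?_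
  show Q.u (Q.E a) - Q.E a ∈ _
  rw [← N_apply, N_E]
  exact ⟨Q.e, rfl⟩

end HModel

end Cfsg.Lib.Linear.SUThree
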