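import Cfsg.Agent.Lib.Linear.SUThree.Designs

/-!
# Two conjugates of a regular unipotent element generating a three-dimensional unitary group
-/

set_option autoImplicit false

namespace Cfsg.Lib.Linear.SUThree

open Module

variable {F V : Type*} [Field F] [AddCommGroup V] [Module F V] {σ : F →+* F} {B : V →ₛₗ[σ] V →ₗ[F] F}

namespace HModel

variable {α : F} (Q : HModel 1 α B)

/-- Coordinates with respect to the cyclic basis. -/
def vec (c : Fin 3 → F) : V := c 0 • Q.E 0 + c 1 • Q.E 1 + c 2 • Q.E 2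

theorem repr_vec (c : Fin 3 → F) (i : Fin 3) : (Q.basis : Basis (Fin 3) F V).repr (Q.vec c) i = c i := by
  have hb : ∀ j : Fin 3, (Q.basis : Basis (Fin 3) F V) j = Q.E j.val := fun j => Q.basis_apply j
  have : Q.vec c = ∑ j, c j • (Q.basis : Basis (Fin 3) F V) j := by
    rw [Fin.sum_univ_three, hb, hb, hb]; rfl
  rw [this, Basis.repr_sum_self]

theorem eps_one : Q.eps = Q.E 2 := rfl

theorem g00 : Q.G 0 0 = 0 := Q.G_zero (by omega) (by omega)

theorem g01 : Q.G 0 1 = α := by rw [Q.G_m (show 0 < 1 by omega), pow_zero, one_mul]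

theorem g02 : Q.G 0 2 = 1 := by rw [Q.G_top (a := 0) (b := 2) (by omega), pow_zero]

theorem g11 : Q.G 1 1 = -1 := by rw [Q.G_top (a := 1) (b := 1) (by omega), pow_one]

theorem g12 : Q.G 1 2 = 0 := Q.G_high (by omega)

theorem g22 : Q.G 2 2 = 0 := Q.G_high (by omega)

/-- An isometry with prescribed images of the cyclic basis. -/
theorem exists_of_images (c : Fin 3 → Fin 3 → F)
    (hdet : (Matrix.of c).det = 1)
    (h00 : B (Q.vec (c 0)) (Q.vec (c 0)) = 0) (h01 : B (Q.vec (c 0)) (Q.vec (c 1)) = α)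
    (h02 : B (Q.vec (c 0)) (Q.vec (c 2)) = 1) (h11 : B (Q.vec (c 1)) (Q.vec (c 1)) = -1)
    (h12 : B (Q.vec (c 1)) (Q.vec (c 2)) = 0) (h22 : B (Q.vec (c 2)) (Q.vec (c 2)) = 0) :
    ∃ g ∈ Herm.iso B, LinearEquiv.det g = 1 ∧ g (Q.E 0) = Q.vec (c 0) ∧ g (Q.E 1) = Q.vec (c 1) ∧
      g (Q.E 2) = Q.vec (c 2) := by
  haveI := Q.finite
  let b : Basis (Fin 3) F V := Q.basis
  have hb : ∀ j : Fin 3, b j = Q.E j.val := fun j => Q.basis_apply j
  let L : V →ₗ[F] V := b.constr F fun j => Q.vec (c j)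
  have hLb : ∀ j, L (b j) = Q.vec (c j) := fun j => b.constr_basis F _ j
  have hpres : ∀ a a', B (L a) (L a') = B a a' := by
    have he : ∀ i j : Fin 3, B (L (b i)) (L (b j)) = B (b i) (b j) := by
      have key : ∀ i j : Fin 3, i ≤ j → B (L (b i)) (L (b j)) = B (b i) (b j) := by
        intro i j hij
        rw [hLb, hLb, hb, hb]
        fin_cases i <;> fin_cases j <;> simp at hij ⊢
        · rw [h00]; exact Q.g00.symm
        · rw [h01]; exact Q.g01.symm
        · rw [h02]; exact Q.g02.symm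
        · rw [h11]; exact Q.g11.symm
        · rw [h12]; exact Q.g12.symm
        · rw [h22]; exact Q.g22.symm
      intro i j
      rcases le_total i j with h | h
      · exact key i j h
      · rw [← Q.symm, key j i h, Q.symm]
    intro a a'
    conv_lhs => rw [← b.sum_repr a, ← b.sum_repr a']
    conv_rhs => rw [← b.sum_repr a, ← b.sum_repr a']
    simp only [map_sum, map_smul, LinearMap.map_smulₛₗ, LinearMap.sum_apply, LinearMap.smul_apply, he]
  obtain ⟨g, hg, hgL, hga⟩ := exists_iso_of_preserves Q.hB L hpres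
  refine ⟨g, hg, Units.ext ?_, ?_, ?_, ?_⟩
  · rw [LinearEquiv.coe_det, hgL, Units.val_one, ← LinearMap.det_toMatrix b]
    have : LinearMap.toMatrix b b L = (Matrix.of c).transpose := by
      ext i j
      rw [LinearMap.toMatrix_apply, hLb, Q.repr_vec]
      rfl
    rw [this, Matrix.det_transpose, hdet]
  · rw [hga, ← show b 0 = Q.E 0 from hb 0, hLb]
  · rw [hga, ← show b 1 = Q.E 1 from hb 1, hLb]
  · rw [hga, ← show b 2 = Q.E 2 from hb 2, hLb]

theorem vec_eps (a b c : F) : B Q.eps (Q.vec ![a, b, c]) = a := by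
  simp [vec, Q.B_eps_E]

theorem uy_vec (a b c : F) : Q.u (Q.vec ![a, b, c]) = Q.vec ![a, a + b, b + c] := by
  simp [vec, Q.u_E, Q.E_eq_zero (show 2 * 1 + 1 ≤ 3 by omega)]
  module

/-- Commuting `u` past a conjugate by an element of the Borel subgroup gives a transvection at `ε`. -/
theorem mem_comm {P : Subgroup (V ≃ₗ[F] V)} (hP : P ≤ Herm.iso B) (hu : Q.u ∈ P) {h : V ≃ₗ[F] V} (hh : h ∈ P)
    (hd : LinearEquiv.det h = 1) {l : F} (hl : h Q.eps = l • Q.eps) :
    ∃ hc, Herm.qrefl (B := B) Q.eps (l ^ 2 / σ l - σ l ^ 2 / l) hc ∈ P := by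
  haveI := Q.finite
  let b : Basis (Fin 3) F V := Q.basis
  have hb : ∀ j : Fin 3, b j = Q.E j.val := fun j => Q.basis_apply j
  set a := b.repr (h Q.e) 0
  set bb := b.repr (h Q.e) 1
  set cc := b.repr (h Q.e) 2
  have he : h Q.e = Q.vec ![a, bb, cc] := by
    conv_lhs => rw [← b.sum_repr (h Q.e)]
    rw [Fin.sum_univ_three, hb, hb, hb]
    rfl
  set μ₀ := b.repr (h (Q.E 1)) 0
  set μ := b.repr (h (Q.E 1)) 1
  set ν := b.repr (h (Q.E 1)) 2
  have hE1 : h (Q.E 1) = Q.vec ![μ₀, μ, ν] := by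
    conv_lhs => rw [← b.sum_repr (h (Q.E 1))]
    rw [Fin.sum_univ_three, hb, hb, hb]
    rfl
  have hl0 : l ≠ 0 := fun h0 => Q.eps_ne (h.injective (by rw [hl, h0, zero_smul, map_zero]))
  have hσl0 : σ l ≠ 0 := (map_ne_zero σ).2 hl0
  have ha : σ l * a = 1 := by
    have := hP hh Q.eps Q.e
    rw [hl, he, LinearMap.map_smulₛₗ, LinearMap.smul_apply, Q.vec_eps, Q.B_eps_e] at this
    exact this
  have hμ₀ : μ₀ = 0 := by
    have := hP hh Q.eps (Q.E 1)
    rw [hl, hE1, LinearMap.map_smulₛₗ, LinearMap.smul_apply, Q.vec_eps, Q.B_eps_E, if_neg one_ne_zero,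
      smul_eq_mul, mul_eq_zero] at this
    exact this.resolve_left hσl0
  have hE1' : h (Q.E 1) = Q.vec ![0, μ, ν] := by rw [hE1, hμ₀]
  have hdet : a * μ * l = 1 := by
    have h1 := congrArg Units.val hd
    rw [LinearEquiv.coe_det, Units.val_one, ← LinearMap.det_toMatrix b] at h1
    have : LinearMap.toMatrix b b (h : V →ₗ[F] V) = (Matrix.of ![![a, bb, cc], ![0, μ, ν], ![0, 0, l]]).transpose := by
      ext i j
      rw [LinearMap.toMatrix_apply]
      fin_cases j
      · show b.repr (h (b 0)) i = _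
        rw [hb, show h (Q.E (0 : Fin 3).val) = Q.vec ![a, bb, cc] from he, Q.repr_vec]
        rfl
      · show b.repr (h (b 1)) i = _
        rw [hb, show h (Q.E (1 : Fin 3).val) = Q.vec ![0, μ, ν] from hE1', Q.repr_vec]
        rfl
      · show b.repr (h (b 2)) i = _
        rw [hb, show h (Q.E (2 : Fin 3).val) = Q.vec ![0, 0, l] by
          rw [show Q.E (2 : Fin 3).val = Q.eps from rfl, hl]; simp [vec, eps_one], Q.repr_vec]
        rfl
    rw [this, Matrix.det_transpose, Matrix.det_fin_three] at h1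
    simpa using h1
  have ha0 : a ≠ 0 := fun h0 => by simp [h0] at ha
  have hμ0 : μ ≠ 0 := fun h0 => by simp [h0] at hdet
  set U := h * Q.u * h⁻¹ with hU
  have hUP : U ∈ P := P.mul_mem (P.mul_mem hh hu) (P.inv_mem hh)
  have hUh : ∀ z, U (h z) = h (Q.u z) := fun z => by
    have e : h⁻¹ (h z) = z := by rw [← LinearEquiv.mul_apply, inv_mul_cancel]; rfl
    rw [hU, LinearEquiv.mul_apply, LinearEquiv.mul_apply, e]
  have hUε : U Q.eps = Q.eps := by
    have := hUh Q.eps
    rw [hl, map_smul, u_eps, hl] at this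
    exact smul_right_injective V hl0 this
  set ρ := μ / a
  set ρ' := l / μ
  set δ := (ν - bb * ρ') / a
  have hUE1 : U (Q.E 1) = Q.E 1 + ρ' • Q.eps := by
    have := hUh (Q.E 1)
    rw [u_E, map_add, show h (Q.E (1 + 1)) = l • Q.eps from hl, hE1'] at this
    have h2 : μ • U (Q.E 1) = μ • (Q.E 1 + ρ' • Q.eps) := by
      simp only [vec, Matrix.cons_val_zero, Matrix.cons_val_one, Matrix.cons_val, zero_smul, zero_add, map_add,
        map_smul, ← eps_one, hUε] at this
      have e : μ * ρ' = l := mul_div_cancel₀ _ hμ0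
      linear_combination (norm := module) this - e • Q.eps
    exact smul_right_injective V hμ0 h2
  have hUe : U Q.e = Q.e + ρ • Q.E 1 + δ • Q.eps := by
    have := hUh Q.e
    rw [← E_zero, u_E, map_add, show h (Q.E 0) = Q.vec ![a, bb, cc] from he, show h (Q.E (0 + 1)) = _ from hE1'] at this
    simp only [vec, Matrix.cons_val_zero, Matrix.cons_val_one, Matrix.cons_val, zero_smul, zero_add, map_add,
      map_smul, ← eps_one, hUε, hUE1, E_zero] at this
    have h2 : a • U Q.e = a • (Q.e + ρ • Q.E 1 + δ • Q.eps) := by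
      have e : a * ρ = μ := mul_div_cancel₀ _ ha0
      have e' : a * δ = ν - bb * ρ' := mul_div_cancel₀ _ ha0
      linear_combination (norm := module) this - e • Q.E 1 - e' • Q.eps
    exact smul_right_injective V ha0 h2
  have hc0 : ρ' - ρ = l ^ 2 / σ l - σ l ^ 2 / l := by
    have hρ : ρ = σ l ^ 2 / l := by
      show μ / a = _
      field_simp
      linear_combination (σ l) * hdet - (μ * l) * ha - (σ l) * ha
    have hρ' : ρ' = l ^ 2 / σ l := by
      show l / μ = _
      field_simp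
      linear_combination μ * l * ha - σ l * hdet
    rw [hρ, hρ']
  have hc : (l ^ 2 / σ l - σ l ^ 2 / l) + σ (l ^ 2 / σ l - σ l ^ 2 / l) = 0 := by
    rw [map_sub, map_div₀, map_div₀, map_pow, map_pow, Q.hσ2]; ring
  refine ⟨cond_of_tr Q.B_eps_eps hc, ?_⟩
  have key : U * Q.u = Herm.qrefl Q.eps (l ^ 2 / σ l - σ l ^ 2 / l) (cond_of_tr Q.B_eps_eps hc) * (Q.u * U) := by
    refine LinearEquiv.toLinearMap_injective (b.ext fun j => ?_)
    show U (Q.u (b j)) = Herm.qrefl Q.eps _ (cond_of_tr Q.B_eps_eps hc) (Q.u (U (b j)))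
    rw [hb, Herm.qrefl_apply, ← hc0]
    fin_cases j
    · show U (Q.u (Q.E 0)) = Q.u (U (Q.E 0)) + ((ρ' - ρ) * B Q.eps (Q.u (U (Q.E 0)))) • Q.eps
      rw [Q.B_eps_u, u_E, map_add, E_zero, hUe, hUE1, map_add, map_add, map_smul, map_smul, u_eps, u_apply Q Q.e,
        u_apply Q (Q.E 1), N_E, ← eps_one, ← E_zero, N_E]
      simp only [map_add, map_smul, E_zero, Q.B_eps_e, Q.B_eps_E, Q.B_eps_eps, if_neg one_ne_zero]
      module
    · show U (Q.u (Q.E 1)) = Q.u (U (Q.E 1)) + ((ρ' - ρ) * B Q.eps (Q.u (U (Q.E 1)))) • Q.eps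
      rw [Q.B_eps_u, u_E, map_add, ← eps_one, hUε, hUE1, map_add, map_smul, u_eps, u_E, ← eps_one]
      simp only [map_add, map_smul, Q.B_eps_E, Q.B_eps_eps, if_neg one_ne_zero]
      module
    · show U (Q.u Q.eps) = Q.u (U Q.eps) + ((ρ' - ρ) * B Q.eps (Q.u (U Q.eps))) • Q.eps
      rw [u_eps, hUε, u_eps, Q.B_eps_eps, mul_zero, zero_smul, add_zero]
  have := P.mul_mem (P.mul_mem hUP hu) (P.inv_mem (P.mul_mem hu hUP))
  rwa [key, mul_inv_cancel_right] at this

/-- Every fixed scalar at once: an element of large order on the fixed line. -/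
theorem good_eps_of_powers [Fintype F] {P : Subgroup (V ≃ₗ[F] V)} (hP : P ≤ Herm.iso B) (hu : Q.u ∈ P)
    {h : V ≃ₗ[F] V} (hh : h ∈ P) (hd : LinearEquiv.det h = 1) {l : F} (hl : h Q.eps = l • Q.eps)
    (hl1 : σ l * l = 1) (hgen : Subfield.closure ({l ^ 3} : Set F) = ⊤) : Good B P Q.eps := by
  classical
  have hl0 : l ≠ 0 := fun h => by simp [h] at hl1
  have hσl : σ l = l⁻¹ := eq_inv_of_mul_eq_one_left hl1
  let A : AddSubgroup F :=
    { carrier := {x | ∃ hc, Herm.qrefl (B := B) Q.eps (x - σ x) hc ∈ P}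
      zero_mem' := by
        have hc : (0 : F) + σ 0 + σ 0 * 0 * B Q.eps Q.eps = 0 := by simp
        refine ⟨by simp, ?_⟩
        rw [Herm.qrefl_congr (show (0 : F) - σ 0 = 0 by simp) _ hc,
          show Herm.qrefl (B := B) Q.eps (0 : F) hc = 1 from LinearEquiv.ext fun z => by simp]
        exact P.one_mem
      add_mem' := fun {x y} ⟨hx, hxm⟩ ⟨hy, hym⟩ => by
        have hc : (x + y - σ (x + y)) + σ (x + y - σ (x + y)) + σ (x + y - σ (x + y)) * (x + y - σ (x + y)) *
            B Q.eps Q.eps = 0 := cond_of_tr Q.B_eps_eps (by rw [map_sub, Q.hσ2]; ring)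
        refine ⟨hc, ?_⟩
        have := P.mul_mem hxm hym
        convert this using 1
        refine LinearEquiv.ext fun z => ?_
        simp only [LinearEquiv.mul_apply, Herm.qrefl_apply, map_add, map_smul, smul_eq_mul, Q.B_eps_eps]
        module
      neg_mem' := fun {x} ⟨hx, hxm⟩ => by
        have hc : (-x - σ (-x)) + σ (-x - σ (-x)) + σ (-x - σ (-x)) * (-x - σ (-x)) * B Q.eps Q.eps = 0 :=
          cond_of_tr Q.B_eps_eps (by rw [map_sub, Q.hσ2]; ring)
        refine ⟨hc, ?_⟩
        have := P.inv_mem hxm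
        convert this using 1
        refine (eq_inv_of_mul_eq_one_left (LinearEquiv.ext fun z => ?_))
        simp only [LinearEquiv.mul_apply, Herm.qrefl_apply, map_add, map_smul, smul_eq_mul, Q.B_eps_eps, map_neg,
          LinearEquiv.coe_one, id]
        module }
  have hk : ∀ k : ℕ, (l ^ 3) ^ k ∈ A := by
    intro k
    have hlk : (h ^ k) Q.eps = (l ^ k) • Q.eps := by
      induction k with
      | zero => simp
      | succ k ih => rw [pow_succ, LinearEquiv.mul_apply, hl, map_smul, ih, smul_smul, pow_succ, mul_comm]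
    obtain ⟨hc, hm⟩ := Q.mem_comm hP hu (P.pow_mem hh k) (by rw [map_pow, hd, one_pow]) hlk
    have e : (l ^ k) ^ 2 / σ (l ^ k) - σ (l ^ k) ^ 2 / l ^ k = (l ^ 3) ^ k - σ ((l ^ 3) ^ k) := by
      simp only [map_pow, hσl, inv_pow, div_inv_eq_mul]
      field_simp
      ring
    refine ⟨by rw [← e]; exact hc, ?_⟩
    have := hm
    rwa [Herm.qrefl_congr e hc (by rw [← e]; exact hc)] at this
  have hA : ∀ x ∈ Subring.closure ({l ^ 3} : Set F), x ∈ A := by
    intro x hx
    rw [Subring.mem_closure_iff] at hx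
    refine (AddSubgroup.closure_le A).2 ?_ hx
    intro y hy
    obtain ⟨k, rfl⟩ := Submonoid.mem_closure_singleton.1 hy
    exact hk k
  let R := Subring.closure ({l ^ 3} : Set F)
  let K : Subfield F :=
    { R with
      inv_mem' := fun x hx => by
        rcases eq_or_ne x 0 with rfl | h0
        · rw [inv_zero]; exact R.zero_mem
        have e : x⁻¹ = x ^ (Fintype.card F - 2) := by
          refine inv_eq_of_mul_eq_one_right ?_
          rw [← pow_succ', show Fintype.card F - 2 + 1 = Fintype.card F - 1 by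
            have := Fintype.one_lt_card (α := F); omega]
          exact FiniteField.pow_card_sub_one_eq_one x h0
        rw [e]
        exact R.pow_mem hx _ }
  have hK : K = ⊤ := top_le_iff.1 (hgen ▸ Subfield.closure_le.2 (Set.singleton_subset_iff.2
    (show l ^ 3 ∈ R from Subring.subset_closure (Set.mem_singleton _))))
  refine ⟨Q.B_eps_eps, fun c hc => ?_⟩
  have hmem : c * α ∈ A := hA _ (show c * α ∈ K by rw [hK]; trivial)
  obtain ⟨hc', hm⟩ := hmem
  have e : c * α - σ (c * α) = c := by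
    rw [map_mul]
    linear_combination c * Q.trα - σ α * (tr_of_cond Q.B_eps_eps hc)
  rwa [Herm.qrefl_congr e hc' hc] at hm

/-- The generic design: `v` carries `u y` to the fixed line to `y`. -/
theorem twoGen_generic [Fintype F] {l : F} (hα : α = l * σ α) (hgen : Subfield.closure ({l ^ 3} : Set F) = ⊤)
    {s : F} (hs : σ s = s) (hs0 : s ≠ 0) (hs1 : s ≠ 1) : Q.TwoGen := by
  haveI := Q.finite
  have hα0 : α ≠ 0 := fun h => by have := Q.trα; rw [h, map_zero, add_zero] at this; exact zero_ne_one this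
  have hα0' : σ α ≠ 0 := (map_ne_zero σ).2 hα0
  set D := (2 * σ α + 1) * α ^ 2 with hD
  have htr : D + σ D = 1 := by
    rw [hD, map_mul, map_add, map_mul, map_pow, map_one, map_ofNat, Q.hσ2]
    linear_combination (α + σ α + 1) * Q.trα + (2 * α * σ α) * Q.trα
  set τ := (D - α) * α with hτ
  have hτ' : τ - σ τ = D - α := by
    rw [hτ, map_mul, map_sub]
    linear_combination (D - α) * Q.trα - σ α * (htr - Q.trα)
  set R := B (Q.vec ![1, τ, 0]) (Q.vec ![1, τ, 0])
  set τ₀ := -(α * R) with hτ₀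
  set y := Q.vec ![1, τ, τ₀] with hy
  have hyl : y = Q.lift (Q.vec ![1, τ, 0]) := by
    rw [hy, lift, hτ₀]; simp [vec, eps_one, R]; module
  have hyy : B y y = 0 := by rw [hyl]; exact Q.lift_iso (Q.vec_eps _ _ _)
  have hye : B Q.eps y = 1 := Q.vec_eps _ _ _
  have hye' : B y Q.eps = 1 := by rw [← Q.symm, hye, map_one]
  set z := Q.u y with hz
  have hzv : z = Q.vec ![1, 1 + τ, τ + τ₀] := Q.uy_vec _ _ _
  have hzz : B z z = 0 := by rw [hz, Q.u_inv, hyy]
  have hze : B Q.eps z = 1 := by rw [hz, Q.B_eps_u, hye]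
  have hze' : B z Q.eps = 1 := by rw [← Q.symm, hze, map_one]
  have hyz : B y z = D := by
    rw [hz, u_apply, map_add, hyy, zero_add]
    have hN : Q.N y = Q.E 1 + τ • Q.E 2 := by
      rw [hy, vec]
      simp [N_E, Q.E_eq_zero (show 2 * 1 + 1 ≤ 3 by omega)]
    rw [hN, hy]
    simp only [vec, Matrix.cons_val_zero, Matrix.cons_val_one, Matrix.cons_val, one_smul, map_add,
      LinearMap.map_smulₛₗ, LinearMap.add_apply, LinearMap.smul_apply, smul_eq_mul, map_smul, RingHom.id_apply]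
    simp only [← G.eq_def]
    rw [g01, g02, g11, g12, Q.G_high (show 2 * 1 + 1 ≤ 2 + 1 by omega), g22]
    linear_combination hτ'
  have hzy : B z y = σ D := by rw [← Q.symm, hyz]
  set ν := σ α * α with hν
  set κ := (σ α)⁻¹ with hκ
  set ξ := α⁻¹ with hξ
  set c : Fin 3 → Fin 3 → F := ![![0, 0, ν], ![κ, κ * τ, κ * τ₀ - ν],
    ![κ + ξ, κ * τ + ξ * (1 + τ), κ * τ₀ - 2 * ν + ξ * (τ + τ₀)]] with hc
  have e0 : Q.vec (c 0) = ν • Q.eps := by simp [hc, vec, eps_one]
  have e1 : Q.vec (c 1) = κ • y - ν • Q.eps := by simp [hc, hy, vec, eps_one]; module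
  have e2 : Q.vec (c 2) = κ • y - (2 * ν) • Q.eps + ξ • z := by simp [hc, hy, hzv, vec, eps_one]; module
  have hνσ : σ ν = ν := by rw [hν, map_mul, Q.hσ2, mul_comm]
  have hκσ : σ κ = α⁻¹ := by rw [hκ, map_inv₀, Q.hσ2]
  have hξσ : σ ξ = (σ α)⁻¹ := by rw [hξ, map_inv₀]
  obtain ⟨g, hg, hgd, hg0, hg1, hg2⟩ := Q.exists_of_images c
    (by rw [hc, Matrix.det_fin_three]; simp; rw [hν, hκ, hξ]; field_simp; ring)
    (by rw [e0]; simp [Q.B_eps_eps])
    (by
      rw [e0, e1]; simp only [map_add, map_sub, LinearMap.map_smulₛₗ, LinearMap.smul_apply, map_smul, smul_eq_mul,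
        Q.B_eps_eps, hye, hνσ, RingHom.id_apply]
      rw [hν, hκ]; field_simp; ring)
    (by
      rw [e0, e2]; simp only [map_add, map_sub, LinearMap.map_smulₛₗ, LinearMap.smul_apply, map_smul, smul_eq_mul,
        Q.B_eps_eps, hye, hze, hνσ, RingHom.id_apply]
      rw [hν, hκ, hξ]; field_simp; linear_combination Q.trα)
    (by
      rw [e1]; simp only [map_add, map_sub, LinearMap.map_smulₛₗ, LinearMap.add_apply, LinearMap.sub_apply,
        LinearMap.smul_apply, map_smul, smul_eq_mul, Q.B_eps_eps, hye, hye', hyy, hνσ, hκσ, RingHom.id_apply]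
      rw [hν, hκ]; field_simp; linear_combination -(σ α * α) * Q.trα)
    (by
      rw [e1, e2]; simp only [map_add, map_sub, LinearMap.map_smulₛₗ, LinearMap.add_apply, LinearMap.sub_apply,
        LinearMap.smul_apply, map_smul, smul_eq_mul, Q.B_eps_eps, hye, hye', hze, hyy, hyz, hνσ, hκσ, RingHom.id_apply]
      rw [hν, hκ, hξ, hD]; field_simp; linear_combination -(σ α * α) * Q.trα)
    (by
      rw [e2]; simp only [map_add, map_sub, LinearMap.map_smulₛₗ, LinearMap.add_apply, LinearMap.sub_apply,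
        LinearMap.smul_apply, map_smul, smul_eq_mul, map_mul, map_ofNat, Q.B_eps_eps, hye, hye', hze, hze', hyy, hyz,
        hzy, hzz, hνσ, hκσ, hξσ, RingHom.id_apply]
      rw [hD, map_mul, map_add, map_mul, map_pow, map_one, map_ofNat, Q.hσ2, hν, hκ, hξ]
      field_simp; linear_combination -(2 * σ α * α) * Q.trα)
  refine ⟨g, hg, hgd, fun P hP hu hv => ?_⟩
  set v := g * Q.u * g⁻¹ with hvdef
  have hvd : LinearEquiv.det v = 1 := by rw [hvdef, map_mul, map_mul, map_inv, hgd, Q.det_u]; simp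
  have hgv : ∀ w, v (g w) = g (Q.u w) := fun w => by
    have e : g⁻¹ (g w) = w := by rw [← LinearEquiv.mul_apply, inv_mul_cancel]; rfl
    rw [hvdef, LinearEquiv.mul_apply, LinearEquiv.mul_apply, e]
  have e3 : Q.E 3 = 0 := Q.E_eq_zero (by omega)
  have hv0 : v (ν • Q.eps) = κ • y := by
    rw [← e0, ← hg0, hgv, u_E, map_add, hg0, hg1, e0, e1]; module
  have hv1 : v (ξ • z) = ν • Q.eps := by
    have : ξ • z = g (Q.E 0 - Q.E 1 + Q.E 2) := by
      rw [map_add, map_sub, hg0, hg1, hg2, e0, e1, e2]; module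
    rw [this, hgv, map_add, map_sub, u_E, u_E, u_E, e3, ← e0, ← hg0]
    congr 1
    module
  have hν0 : ν ≠ 0 := mul_ne_zero hα0' hα0
  have hh : v * Q.u * v ∈ P := P.mul_mem (P.mul_mem hv hu) hv
  have hhε : (v * Q.u * v) Q.eps = l • Q.eps := by
    have h1 : (v * Q.u * v) (ν • Q.eps) = (κ / ξ) • ν • Q.eps := by
      rw [LinearEquiv.mul_apply, LinearEquiv.mul_apply, hv0, map_smul Q.u, ← hz,
        show κ • z = (κ / ξ) • (ξ • z) by rw [smul_smul, div_mul_cancel₀ _ (inv_ne_zero hα0)], map_smul v (κ / ξ), hv1]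
    rw [map_smul, smul_comm] at h1
    rw [smul_right_injective V hν0 h1, show κ / ξ = l by
      rw [hκ, hξ, div_inv_eq_mul, inv_mul_eq_div, div_eq_iff hα0']; exact hα]
  have hl1 : σ l * l = 1 := by
    have e : l = α / σ α := by rw [eq_div_iff hα0', ← hα]
    rw [e, map_div₀, Q.hσ2]; field_simp
  have hεG : Good B P Q.eps := Q.good_eps_of_powers hP hu hh
    (by rw [map_mul, map_mul, hvd, Q.det_u, one_mul, one_mul]) hhε hl1 hgen
  have hfG : Good B P (κ • y) := hv0 ▸ good_map hP hv (good_smul Q.hσ2 hεG ν)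
  exact Q.top_of_eps hP hu hεG hs hs0 hs1 hfG (by rw [map_smul, hye, smul_eq_mul, mul_one]; exact inv_ne_zero hα0')

/-- The design over the field with twenty-five elements. -/
theorem twoGen_five [Fintype F] {ω : F} (hω : ω ^ 2 + ω + 1 = 0) (h5 : (5 : F) = 0) (hσω : σ ω = ω ^ 2)
    (hα : α = 4 + 2 * ω) (hfix : ∀ r : F, σ r = r → r ≠ 0 → ∃ k : ℕ, r = (3 : F) ^ k) : Q.TwoGen := by
  haveI := Q.finite
  have hα0 : α ≠ 0 := fun h => by have := Q.trα; rw [h, map_zero, add_zero] at this; exact zero_ne_one this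
  have h21 : (2 : F) ≠ 0 := fun h => one_ne_zero (α := F) (by linear_combination h5 - 2 * h)
  have hσα : σ α = 4 + 2 * ω ^ 2 := by rw [hα, map_add, map_mul, map_ofNat, map_ofNat, hσω]
  set τ := (3 - α) * α with hτ
  have hτ' : τ - σ τ = 3 - α := by
    rw [hτ, map_mul, map_sub, map_ofNat]
    linear_combination (3 - α) * Q.trα - σ α * h5 + σ α * Q.trα
  set R := B (Q.vec ![1, τ, 0]) (Q.vec ![1, τ, 0])
  set τ₀ := -(α * R) with hτ₀
  set y := Q.vec ![1, τ, τ₀] with hy
  have hyl : y = Q.lift (Q.vec ![1, τ, 0]) := by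
    rw [hy, lift, hτ₀]; simp [vec, eps_one, R]; module
  have hyy : B y y = 0 := by rw [hyl]; exact Q.lift_iso (Q.vec_eps _ _ _)
  have hye : B Q.eps y = 1 := Q.vec_eps _ _ _
  have hye' : B y Q.eps = 1 := by rw [← Q.symm, hye, map_one]
  set z := Q.u y with hz
  have hzv : z = Q.vec ![1, 1 + τ, τ + τ₀] := Q.uy_vec _ _ _
  have hzz : B z z = 0 := by rw [hz, Q.u_inv, hyy]
  have hze : B Q.eps z = 1 := by rw [hz, Q.B_eps_u, hye]
  have hze' : B z Q.eps = 1 := by rw [← Q.symm, hze, map_one]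
  have hyz : B y z = 3 := by
    rw [hz, u_apply, map_add, hyy, zero_add]
    have hN : Q.N y = Q.E 1 + τ • Q.E 2 := by
      rw [hy, vec]
      simp [N_E, Q.E_eq_zero (show 2 * 1 + 1 ≤ 3 by omega)]
    rw [hN, hy]
    simp only [vec, Matrix.cons_val_zero, Matrix.cons_val_one, Matrix.cons_val, one_smul, map_add,
      LinearMap.map_smulₛₗ, LinearMap.add_apply, LinearMap.smul_apply, smul_eq_mul, map_smul, RingHom.id_apply]
    simp only [← G.eq_def]
    rw [g01, g02, g11, g12, Q.G_high (show 2 * 1 + 1 ≤ 2 + 1 by omega), g22]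
    linear_combination hτ'
  have hzy : B z y = 3 := by rw [← Q.symm, hyz, map_ofNat]
  set l := ω ^ 2 / α with hl
  have hlα : l * α = ω ^ 2 := div_mul_cancel₀ _ hα0
  have hσl : σ l * σ α = ω := by
    rw [← map_mul, hlα, map_pow, hσω]
    linear_combination (ω ^ 2 - ω) * hω
  have hα2 : α ^ 2 = 3 * ω ^ 2 := by
    rw [hα]; linear_combination hω * 1 + (3 + 3 * ω) * h5
  have hl'' : l = 3 - ω := mul_right_cancel₀ hα0 (by
    rw [hlα, hα]
    linear_combination 3 * hω - (ω + 3) * h5)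
  have hσl'' : σ l = 3 - ω ^ 2 := by rw [hl'', map_sub, map_ofNat, hσω]
  set ν := -σ α with hν
  set c : Fin 3 → Fin 3 → F := ![![0, 0, ν], ![-1, -τ, -τ₀ - ν],
    ![-l + 2, -l * (1 + τ) + 2 * τ, -l * (τ + τ₀) + 2 * τ₀ + ν]] with hc
  have e0 : Q.vec (c 0) = ν • Q.eps := by simp [hc, vec, eps_one]
  have e1 : Q.vec (c 1) = -y - ν • Q.eps := by simp [hc, hy, vec, eps_one]; module
  have e2 : Q.vec (c 2) = -(l • z) + (2 : F) • y + ν • Q.eps := by simp [hc, hy, hzv, vec, eps_one]; module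
  have hνσ : σ ν = -α := by rw [hν, map_neg, Q.hσ2]
  obtain ⟨g, hg, hgd, hg0, hg1, hg2⟩ := Q.exists_of_images c
    (by
      rw [hc, Matrix.det_fin_three]; simp
      refine mul_right_cancel₀ hα0 ?_
      rw [hν]
      have : -(σ α) * ω ^ 2 = α := by rw [hσα, hα]; linear_combination (2 * ω ^ 2 - 2 * ω + 4) * 0 - (2 * ω ^ 2 - 2 * ω + 4) * hω
      linear_combination (-σ α) * hlα + this)
    (by rw [e0]; simp [Q.B_eps_eps])
    (by
      rw [e0, e1]; simp only [map_add, map_sub, map_neg, LinearMap.map_smulₛₗ, LinearMap.smul_apply, map_smul,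
        smul_eq_mul, Q.B_eps_eps, hye, hνσ, RingHom.id_apply]
      ring)
    (by
      rw [e0, e2]; simp only [map_add, map_sub, map_neg, LinearMap.map_smulₛₗ, LinearMap.smul_apply, map_smul,
        smul_eq_mul, Q.B_eps_eps, hye, hze, hνσ, RingHom.id_apply]
      rw [hα] at hlα ⊢
      linear_combination hlα + hω - (1 : F) * h5 * 2 - ω * h5)
    (by
      rw [e1]; simp only [map_add, map_sub, map_neg, LinearMap.map_smulₛₗ, LinearMap.add_apply, LinearMap.sub_apply,
        LinearMap.neg_apply, LinearMap.smul_apply, map_smul, smul_eq_mul, Q.B_eps_eps, hye, hye', hyy, hνσ, hν, Q.hσ2,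
        RingHom.id_apply]
      linear_combination -Q.trα)
    (by
      rw [e1, e2]; simp only [map_add, map_sub, map_neg, LinearMap.map_smulₛₗ, LinearMap.add_apply,
        LinearMap.sub_apply, LinearMap.neg_apply, LinearMap.smul_apply, map_smul, smul_eq_mul, Q.B_eps_eps, hye, hye',
        hze, hyy, hyz, hνσ, hν, RingHom.id_apply]
      simp only [Q.hσ2]
      rw [hl'', hσα, hα]
      linear_combination (4 : F) * hω + (1 - ω) * h5)
    (by
      rw [e2]; simp only [map_add, map_sub, map_neg, LinearMap.map_smulₛₗ, LinearMap.add_apply, LinearMap.sub_apply,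
        LinearMap.neg_apply, LinearMap.smul_apply, map_smul, smul_eq_mul, map_mul, map_ofNat, Q.B_eps_eps, hye, hye',
        hze, hze', hyy, hyz, hzy, hzz, hνσ, hν, RingHom.id_apply]
      simp only [Q.hσ2]
      rw [hσl'', hl'', hσα, hα]
      linear_combination ((2 : F) + 2 * ω - 2 * ω ^ 2) * hω + (-6 : F) * h5)
  refine ⟨g, hg, hgd, fun P hP hu hv => ?_⟩
  set v := g * Q.u * g⁻¹ with hvdef
  have hvd : LinearEquiv.det v = 1 := by rw [hvdef, map_mul, map_mul, map_inv, hgd, Q.det_u]; simp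
  have hgv : ∀ w, v (g w) = g (Q.u w) := fun w => by
    have e : g⁻¹ (g w) = w := by rw [← LinearEquiv.mul_apply, inv_mul_cancel]; rfl
    rw [hvdef, LinearEquiv.mul_apply, LinearEquiv.mul_apply, e]
  have hv0 : v (ν • Q.eps) = -y := by rw [← e0, ← hg0, hgv, u_E, map_add, hg0, hg1, e0, e1]; module
  have hv1 : v (-y) = -(l • z) := by
    have : -y = g (Q.E 0 + Q.E 1) := by rw [map_add, hg0, hg1, e0, e1]; module
    rw [this, hgv, map_add, u_E, u_E, map_add, map_add, map_add, hg0, hg1, hg2, e0, e1, e2]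
    module
  have hy' : v y = l • z := by rw [map_neg, neg_inj] at hv1; exact hv1
  set h := v⁻¹ * (Q.u⁻¹ * v) * v with hh'
  have hh : h ∈ P := P.mul_mem (P.mul_mem (P.inv_mem hv) (P.mul_mem (P.inv_mem hu) hv)) hv
  have hν0 : ν ≠ 0 := neg_ne_zero.2 ((map_ne_zero σ).2 hα0)
  have hhε : h Q.eps = l • Q.eps := by
    have h1 : h (ν • Q.eps) = l • ν • Q.eps := by
      have : v⁻¹ (-y) = ν • Q.eps := by rw [← hv0, ← LinearEquiv.mul_apply, inv_mul_cancel]; rfl
      rw [hh', LinearEquiv.mul_apply, LinearEquiv.mul_apply, hv0, LinearEquiv.mul_apply, map_neg v, hy', map_neg,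
        map_smul, hz, ← LinearEquiv.mul_apply, inv_mul_cancel, LinearEquiv.coe_one, id, ← smul_neg, map_smul, this]
    rw [map_smul, smul_comm] at h1
    exact smul_right_injective V hν0 h1
  obtain ⟨hc, hmem⟩ := Q.mem_comm hP hu hh (by
    rw [hh', map_mul, map_mul, map_mul, map_inv, map_inv, hvd, Q.det_u]; simp) hhε
  have hl0 : l ≠ 0 := div_ne_zero (pow_ne_zero _ (fun h0 => by rw [h0] at hω; simp at hω)) hα0
  have hNl : σ l * l = 3 := by
    rw [hσl'', hl'']
    linear_combination (ω - 4) * hω + 2 * h5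
  have hc0 : l ^ 2 / σ l - σ l ^ 2 / l ≠ 0 := by
    intro h0
    have hσl0 : σ l ≠ 0 := (map_ne_zero σ).2 hl0
    rw [div_sub_div _ _ hσl0 hl0, div_eq_zero_iff, or_iff_left (mul_ne_zero hσl0 hl0), hσl'', hl''] at h0
    have h7 : (3 : F) * ω - 1 = 0 := by
      linear_combination h0 + (-36 - 9 * ω + 9 * ω ^ 2 + ω ^ 3 - ω ^ 4) * hω + (7 + 15 * ω) * h5
    exact one_ne_zero (α := F) (by linear_combination 2 * (9 * hω - (3 * ω + 4) * h7) - 5 * h5)
  have hεG : Good B P Q.eps := good_of_eigen Q.hσ2 hP hh Q.B_eps_eps hhε hc0 hc hmem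
    (fun r hr hr0 => by rw [hNl]; exact hfix r hr hr0)
  have hyG : Good B P y := by
    have := good_smul Q.hσ2 (good_map hP hv (good_smul Q.hσ2 hεG ν)) (-1 : F)
    rwa [hv0, neg_one_smul, neg_neg] at this
  exact Q.top_of_eps hP hu hεG (s := 2) (map_ofNat σ 2) h21
    (fun h => one_ne_zero (α := F) (by linear_combination h)) hyG (by rw [hye]; exact one_ne_zero)

set_option maxHeartbeats 1600000 in
/-- The design over the field with sixty-four elements. -/
theorem twoGen_eight [Fintype F] (h2 : (2 : F) = 0) {α₀ ζ n : F} (hα : α = α₀ + n) (hn : σ n = n)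
    (hn3 : n ^ 3 = n + 1) (hα₀ : α₀ ^ 2 + α₀ + 1 = 0) (hσα₀ : σ α₀ = α₀ ^ 2) (hζ : ζ ^ 3 = α₀)
    (hζn : σ ζ * ζ = 1) (hspan : ∀ A : AddSubgroup F, 1 ∈ A → n ∈ A → n ^ 2 ∈ A → ∀ r, σ r = r → r ∈ A) :
    Q.TwoGen := by
  haveI := Q.finite
  have hneg : ∀ a : F, -a = a := fun a => by linear_combination -a * h2
  have hvneg : ∀ a : V, -a = a := fun a => by rw [← neg_one_smul F, hneg, one_smul]
  have hζ0 : ζ ≠ 0 := fun h => by simp [h] at hζn
  have hσ1 : α₀ * σ α₀ = 1 := by rw [hσα₀]; linear_combination (α₀ - 1) * hα₀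
  have hα00 : α₀ ≠ 0 := fun h => by simp [h] at hσ1
  have htr0 : α₀ + σ α₀ = 1 := by rw [hσα₀]; linear_combination hα₀ - h2
  set τ := n * α with hτ
  have hτ' : τ - σ τ = n := by
    rw [hτ, map_mul, hn]
    linear_combination n * Q.trα - n * σ α * h2
  set R := B (Q.vec ![1, τ, 0]) (Q.vec ![1, τ, 0])
  set τ₀ := -(α * R) with hτ₀
  set y := Q.vec ![1, τ, τ₀] with hy
  have hyl : y = Q.lift (Q.vec ![1, τ, 0]) := by
    rw [hy, lift, hτ₀]; simp [vec, eps_one, R]; module
  have hyy : B y y = 0 := by rw [hyl]; exact Q.lift_iso (Q.vec_eps _ _ _)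
  have hye : B Q.eps y = 1 := Q.vec_eps _ _ _
  have hye' : B y Q.eps = 1 := by rw [← Q.symm, hye, map_one]
  set z := Q.u y with hz
  have hzv : z = Q.vec ![1, 1 + τ, τ + τ₀] := Q.uy_vec _ _ _
  have hzz : B z z = 0 := by rw [hz, Q.u_inv, hyy]
  have hze : B Q.eps z = 1 := by rw [hz, Q.B_eps_u, hye]
  have hze' : B z Q.eps = 1 := by rw [← Q.symm, hze, map_one]
  have hyz : B y z = α₀ := by
    rw [hz, u_apply, map_add, hyy, zero_add]
    have hN : Q.N y = Q.E 1 + τ • Q.E 2 := by
      rw [hy, vec]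
      simp [N_E, Q.E_eq_zero (show 2 * 1 + 1 ≤ 3 by omega)]
    rw [hN, hy]
    simp only [vec, Matrix.cons_val_zero, Matrix.cons_val_one, Matrix.cons_val, one_smul, map_add,
      LinearMap.map_smulₛₗ, LinearMap.add_apply, LinearMap.smul_apply, smul_eq_mul, map_smul, RingHom.id_apply]
    simp only [← G.eq_def]
    rw [g01, g02, g11, g12, Q.G_high (show 2 * 1 + 1 ≤ 2 + 1 by omega), g22]
    linear_combination hτ' + hα + n * h2
  have hzy : B z y = σ α₀ := by rw [← Q.symm, hyz]
  set a := ζ / α₀ with ha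
  have haα : a * α₀ = ζ := div_mul_cancel₀ _ hα00
  have hσa : σ a * σ α₀ = σ ζ := by rw [← map_mul, haα]
  have han : σ a * a = 1 := by
    have : σ a * a * (σ α₀ * α₀) = σ ζ * ζ := by rw [← haα, map_mul]; ring
    rwa [hζn, mul_comm (σ α₀) α₀, hσ1, mul_one] at this
  have hσaζ : σ a * ζ = α₀ := by linear_combination α₀ * han - σ a * haα
  set q := Q.eps + n • y with hq
  set c : Fin 3 → Fin 3 → F := ![![a, a * (1 + τ), a * (τ + τ₀)],
    ![ζ * n - a, ζ * n * τ - a * (1 + τ), ζ * (1 + n * τ₀) - a * (τ + τ₀)], ![ζ, ζ * τ, ζ * τ₀]] with hc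
  have e0 : Q.vec (c 0) = a • z := by simp [hc, hzv, vec]; module
  have e1 : Q.vec (c 1) = ζ • q - a • z := by simp [hc, hzv, hq, hy, vec, eps_one]; module
  have e2 : Q.vec (c 2) = ζ • y := by simp [hc, hy, vec]; module
  have hqq : B q q = 0 := by
    rw [hq]
    simp only [map_add, LinearMap.map_smulₛₗ, LinearMap.add_apply, LinearMap.smul_apply, smul_eq_mul, map_smul,
      Q.B_eps_eps, hye, hye', hyy, hn, RingHom.id_apply]
    linear_combination n * h2
  have hzq : B z q = 1 + n * σ α₀ := by rw [hq, map_add, map_smul, hze', hzy, smul_eq_mul]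
  have hqy : B q y = 1 := by
    rw [hq]; simp [hye, hyy, hn]
  obtain ⟨g, hg, hgd, hg0, hg1, hg2⟩ := Q.exists_of_images c
    (by
      rw [hc, Matrix.det_fin_three]; simp
      refine mul_right_cancel₀ hα00 ?_
      linear_combination ζ ^ 2 * haα + hζ)
    (by rw [e0]; simp [hzz])
    (by
      rw [e0, e1]
      simp only [map_sub, LinearMap.map_smulₛₗ, LinearMap.smul_apply, map_smul, smul_eq_mul, hzq, hzz,
        RingHom.id_apply]
      linear_combination (1 + n * σ α₀) * hσaζ + n * hσ1 - hα)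
    (by
      rw [e0, e2]
      simp only [LinearMap.map_smulₛₗ, LinearMap.smul_apply, map_smul, smul_eq_mul, hzy, RingHom.id_apply]
      linear_combination σ α₀ * hσaζ + hσ1)
    (by
      have hqz : B q z = 1 + n * α₀ := by
        rw [← Q.symm, hzq, map_add, map_one, map_mul, hn, Q.hσ2]
      rw [e1]
      simp only [map_sub, LinearMap.map_smulₛₗ, LinearMap.sub_apply, LinearMap.smul_apply, map_smul, smul_eq_mul, hzq,
        hqz, hzz, hqq, RingHom.id_apply]
      have hσζa : σ ζ * a = σ α₀ := by linear_combination σ α₀ * han - a * hσa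
      linear_combination -(1 + n * σ α₀) * hσaζ - (1 + n * α₀) * hσζa - htr0 - 2 * n * hσ1 + (-n) * h2 * 1)
    (by
      rw [e1, e2]
      simp only [map_sub, LinearMap.map_smulₛₗ, LinearMap.sub_apply, LinearMap.smul_apply, map_smul, smul_eq_mul, hqy,
        hzy, RingHom.id_apply]
      linear_combination hζn - σ α₀ * hσaζ - hσ1)
    (by rw [e2]; simp [hyy])
  refine ⟨g, hg, hgd, fun P hP hu hv => ?_⟩
  set v := g * Q.u * g⁻¹ with hvdef
  have hgv : ∀ w, v (g w) = g (Q.u w) := fun w => by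
    have e : g⁻¹ (g w) = w := by rw [← LinearEquiv.mul_apply, inv_mul_cancel]; rfl
    rw [hvdef, LinearEquiv.mul_apply, LinearEquiv.mul_apply, e]
  have hc1 : (1 : F) + σ 1 = 0 := by rw [map_one]; linear_combination h2
  let W : V → Prop := fun w => B w w = 0 ∧ ∀ h : (1 : F) + σ 1 + σ 1 * 1 * B w w = 0, Herm.qrefl w 1 h ∈ P
  have hWm : ∀ {k : V ≃ₗ[F] V}, k ∈ P → ∀ {w}, W w → W (k w) := fun {k} hk {w} hw => by
    refine ⟨by rw [hP hk w w, hw.1], fun h => ?_⟩
    have h' := cond_of_tr hw.1 hc1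
    rw [← qrefl_map (hP hk) h' h]
    exact P.mul_mem (P.mul_mem hk (hw.2 h')) (P.inv_mem hk)
  have hWs : ∀ {w} (k : F), σ k * k = 1 → W w → W (k • w) := fun {w} k hk hw => by
    refine ⟨by simp [hw.1], fun h => ?_⟩
    have h' := cond_of_tr hw.1 hc1
    have : Herm.qrefl (k • w) 1 h = Herm.qrefl w 1 h' := by
      refine LinearEquiv.ext fun x => ?_
      simp only [Herm.qrefl_apply, LinearMap.map_smulₛₗ, LinearMap.smul_apply, smul_eq_mul, smul_smul]
      congr 2
      linear_combination (B w x) * hk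
    rw [this]; exact hw.2 h'
  have hWε : W Q.eps := by
    refine ⟨Q.B_eps_eps, fun h => ?_⟩
    have : Herm.qrefl Q.eps 1 h = Q.u * Q.u := by
      refine LinearEquiv.ext fun x => ?_
      rw [Herm.qrefl_apply, one_mul, LinearEquiv.mul_apply, u_apply, u_apply, map_add, ← Q.N_pow_top x,
        show 2 * 1 = 1 + 1 from rfl, pow_succ, pow_one, Module.End.mul_apply]
      linear_combination (norm := module) -(h2 • Q.N x)
    rw [this]; exact P.mul_mem hu hu
  have hWy : W y := by
    have hgε : g Q.eps = ζ • y := by rw [eps_one, hg2, e2]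
    have h0 : W (ζ • y) := by
      refine ⟨by simp [hyy], fun h => ?_⟩
      have h' := cond_of_tr Q.B_eps_eps hc1
      have hk : (1 : F) + σ 1 + σ 1 * 1 * B (g Q.eps) (g Q.eps) = 0 := by rwa [hgε]
      have hu2 : Herm.qrefl Q.eps 1 h' = Q.u * Q.u := by
        refine LinearEquiv.ext fun x => ?_
        rw [Herm.qrefl_apply, one_mul, LinearEquiv.mul_apply, u_apply, u_apply, map_add, ← Q.N_pow_top x,
          show 2 * 1 = 1 + 1 from rfl, pow_succ, pow_one, Module.End.mul_apply]
        linear_combination (norm := module) -(h2 • Q.N x)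
      have e := qrefl_map hg h' hk
      rw [hu2] at e
      have hv2 : v * v = g * (Q.u * Q.u) * g⁻¹ := by rw [hvdef]; group
      have : Herm.qrefl (g Q.eps) 1 hk ∈ P := by rw [← e, ← hv2]; exact P.mul_mem hv hv
      convert this using 1
      refine LinearEquiv.ext fun x => ?_
      simp only [Herm.qrefl_apply, hgε]
    have := hWs ζ⁻¹ (by rw [map_inv₀, ← mul_inv, hζn, inv_one]) h0
    rwa [inv_smul_smul₀ hζ0] at this
  have hWz : W z := hWm hu hWy
  have hvz : v z = α₀ • q := by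
    have h1 : v (a • z) = ζ • q := by
      rw [← e0, ← hg0, hgv, u_E, map_add, hg0, hg1, e0, e1]; module
    rw [map_smul] at h1
    have := congrArg (fun w => a⁻¹ • w) h1
    have ha0 : a ≠ 0 := fun h => by rw [h, zero_mul] at haα; exact hζ0 haα.symm
    simp only [inv_smul_smul₀ ha0, smul_smul] at this
    rw [this]; congr 1; field_simp; linear_combination -haα
  have hWq : W q := by
    have := hWs (σ α₀) (by rw [Q.hσ2]; exact hσ1) (hWm hv hWz)
    rwa [hvz, smul_smul, mul_comm, hσ1, one_smul] at this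
  -- arithmetic in the plane spanned by `ε` and `y`
  let p : F → F → V := fun a b => a • Q.eps + b • y
  have hT : ∀ a b a' b' : F, σ a = a → σ b = b → W (p a b) → W (p a' b') →
      W (p (a' + (a * b' + b * a') * a) (b' + (a * b' + b * a') * b)) := by
    intro a b a' b' hsa hsb hw hw'
    have h := hWm (hw.2 (cond_of_tr hw.1 hc1)) hw'
    rw [Herm.qrefl_apply, one_mul] at h
    convert h using 1
    have e : B (p a b) (p a' b') = a * b' + b * a' := by
      simp only [p, map_add, LinearMap.map_smulₛₗ, LinearMap.add_apply, LinearMap.smul_apply, smul_eq_mul, map_smul,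
        Q.B_eps_eps, hye, hye', hyy, hsa, hsb, RingHom.id_apply]
      ring
    rw [e]
    simp only [p]
    module
  have w10 : W (p 1 0) := by simpa [p] using hWε
  have w01 : W (p 0 1) := by simpa [p] using hWy
  have w1n : W (p 1 n) := by simpa [p, hq] using hWq
  have s1 : σ (1 : F) = 1 := map_one σ
  have s0 : σ (0 : F) = 0 := map_zero σ
  have ha1 : W (p (1 + n) n) := by
    convert hT 1 0 1 n s1 s0 w10 w1n using 2 <;> ring
  have hb1 : W (p (1 + n) 1) := by
    have hh := hT 0 1 (1 + n) n s0 s1 w01 ha1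
    convert hh using 2
    · ring
    · linear_combination -n * h2
  have hcl : W (p n 1) := by
    have hh := hT 1 0 (1 + n) 1 s1 s0 w10 hb1
    convert hh using 2
    · linear_combination -(1 : F) * h2
    · ring
  have hd : W (p (1 + n) (n ^ 2)) := by
    convert hT 1 n 1 0 s1 hn w1n w10 using 2 <;> ring
  -- the point `(n, 1)` carries two coefficients
  have hwx : W (p n 1) := hcl
  have hn0 : n ≠ 0 := fun h => by rw [h] at hn3; simp at hn3
  have hd' : W ((n ^ 2) • p n 1) := by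
    convert hd using 1
    simp only [p, smul_add, smul_smul]
    rw [show n ^ 2 * n = 1 + n by linear_combination hn3, mul_one]
  set T := Herm.qrefl (B := B) q 1 (cond_of_tr hWq.1 hc1) with hTdef
  have hTx : T ((n ^ 2) • p n 1) = Q.eps := by
    have hx : (n ^ 2) • p n 1 = Q.eps + n • q := by
      simp only [p, hq, smul_add, smul_smul, mul_one]
      rw [show n ^ 2 * n = 1 + n by linear_combination hn3]
      module
    rw [hTdef, Herm.qrefl_apply, one_mul, hx, map_add, map_smul, hWq.1, smul_zero, add_zero]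
    have : B q Q.eps = n := by rw [hq]; simp [Q.B_eps_eps, hye', hn]
    rw [this]
    linear_combination (norm := module) h2 • (n • q)
  have hn7 : n ^ 7 = 1 := by linear_combination (n ^ 4 + n ^ 2 + n + 1) * hn3 + (n ^ 2 + n) * h2
  have hW5 : W ((n ^ 5) • Q.eps) := by
    have h1 := hWm (hWq.2 (cond_of_tr hWq.1 hc1)) hwx
    have h2' : n ^ 5 • Q.eps = T (p n 1) := by
      rw [← hTx, map_smul, smul_smul, show n ^ 5 * n ^ 2 = 1 by linear_combination hn7, one_smul]
    rw [h2']; exact h1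
  let C : AddSubgroup F :=
    { carrier := {r | ∃ h, Herm.qrefl (B := B) Q.eps r h ∈ P}
      zero_mem' := ⟨by simp, by
        rw [show Herm.qrefl (B := B) Q.eps (0 : F) (by simp) = 1 from LinearEquiv.ext fun x => by simp]
        exact P.one_mem⟩
      add_mem' := fun {r r'} ⟨hr, hrm⟩ ⟨hr', hrm'⟩ => by
        refine ⟨cond_of_tr Q.B_eps_eps (by
          have := tr_of_cond Q.B_eps_eps hr
          have := tr_of_cond Q.B_eps_eps hr'
          rw [map_add]; linear_combination tr_of_cond Q.B_eps_eps hr + tr_of_cond Q.B_eps_eps hr'), ?_⟩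
        have := P.mul_mem hrm hrm'
        convert this using 1
        refine LinearEquiv.ext fun x => ?_
        simp only [LinearEquiv.mul_apply, Herm.qrefl_apply, map_add, map_smul, smul_eq_mul, Q.B_eps_eps]
        module
      neg_mem' := fun {r} hr => by rwa [hneg r] }
  have memC : ∀ (k : F), σ k = k → W (k • Q.eps) → k ^ 2 ∈ C := by
    intro k hk hw
    have hcc : k ^ 2 + σ (k ^ 2) + σ (k ^ 2) * k ^ 2 * B Q.eps Q.eps = 0 :=
      cond_of_tr Q.B_eps_eps (by rw [map_pow, hk]; linear_combination k ^ 2 * h2)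
    refine ⟨hcc, ?_⟩
    have := hw.2 (cond_of_tr hw.1 hc1)
    convert this using 1
    refine LinearEquiv.ext fun x => ?_
    simp only [Herm.qrefl_apply, LinearMap.map_smulₛₗ, LinearMap.smul_apply, smul_eq_mul, smul_smul, hk]
    congr 2
    ring
  have c1 : (1 : F) ∈ C := by simpa using memC 1 s1 (by simpa using hWε)
  have cn : n ∈ C := by
    have h1 := memC (n ^ 5) (by rw [map_pow, hn]) hW5
    rw [show (n ^ 5) ^ 2 = n + 1 by linear_combination n ^ 3 * hn7 + hn3] at h1
    simpa using C.sub_mem h1 c1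
  have swap : ∀ r, σ r = r → W (r • Q.eps) → W (r • y) := by
    intro r hr hw
    have h1 : W (p r r) := by
      have := hT 0 1 r 0 s0 s1 w01 (by simpa [p] using hw)
      convert this using 2 <;> ring
    have h3 := hT 1 0 r r s1 s0 w10 h1
    have : p (r + (1 * r + 0 * r) * 1) (r + (1 * r + 0 * r) * 0) = r • y := by
      simp only [p]
      rw [show r + (1 * r + 0 * r) * 1 = 0 by linear_combination r * h2]
      module
    rwa [this] at h3
  -- the coefficient `n` as a scaled vector, using that squaring is bijective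
  have hsq : (n ^ 4) ^ 2 = n := by linear_combination n * hn7
  have ofC : ∀ r k : F, σ k = k → k ^ 2 = r → r ∈ C → W (k • Q.eps) := by
    intro r k hk hkr hr
    obtain ⟨hrc, hrm⟩ := hr
    refine ⟨by simp [Q.B_eps_eps], fun h => ?_⟩
    convert hrm using 1
    refine LinearEquiv.ext fun x => ?_
    simp only [Herm.qrefl_apply, LinearMap.map_smulₛₗ, LinearMap.smul_apply, smul_eq_mul, smul_smul, hk, ← hkr]
    congr 2
    ring
  have hs4 : σ (n ^ 4) = n ^ 4 := by rw [map_pow, hn]
  have wε4 := ofC n (n ^ 4) hs4 hsq cn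
  have wy4 := swap _ hs4 wε4
  have hs2 : σ (n ^ 4 + 1) = n ^ 4 + 1 := by rw [map_add, hs4, map_one]
  have wy5 : W ((n ^ 4 + 1) • y) :=
    swap _ hs2 (ofC (n + 1) (n ^ 4 + 1) hs2 (by linear_combination hsq + n ^ 4 * h2) (C.add_mem cn c1))
  -- the word `U(n) L(n + 1) U(n) L(1)`
  have hword : W ((n ^ 2) • y) := by
    have x1 : W (p 1 1) := by
      have := hT 0 1 1 0 s0 s1 w01 w10
      convert this using 2 <;> ring
    have x2 := hT (n ^ 4) 0 1 1 hs4 s0 (by simpa [p] using wε4) x1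
    have x2' : W (p (1 + n) 1) := by
      convert x2 using 2
      · linear_combination -hsq
      · ring
    have x3 := hT 0 (n ^ 4 + 1) (1 + n) 1 s0 hs2 (by simpa [p] using wy5) x2'
    have x3' : W (p (1 + n) (n ^ 2)) := by
      convert x3 using 2
      · ring
      · linear_combination (-(1 + n)) * hsq + (-(n ^ 4 + n ^ 5) - 1 - n) * h2
    have x4 := hT (n ^ 4) 0 (1 + n) (n ^ 2) hs4 s0 (by simpa [p] using wε4) x3'
    convert x4 using 1
    simp only [p]
    rw [show (1 + n + (n ^ 4 * n ^ 2 + 0 * (1 + n)) * n ^ 4) = 0 by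
      linear_combination n ^ 3 * hn7 + hn3 + (1 + n) * h2]
    module
  have cn4 : n ^ 4 ∈ C := by
    have h1 : W ((n ^ 2) • Q.eps) := by
      have h3 : W (p (n ^ 2) (n ^ 2)) := by
        have := hT 1 0 0 (n ^ 2) s1 s0 w10 (by simpa [p] using hword)
        rw [show (0 : F) + (1 * n ^ 2 + 0 * 0) * 1 = n ^ 2 by ring,
          show n ^ 2 + (1 * n ^ 2 + 0 * 0) * 0 = n ^ 2 by ring] at this
        exact this
      have h4 := hT 0 1 (n ^ 2) (n ^ 2) s0 s1 w01 h3
      rw [show n ^ 2 + (0 * n ^ 2 + 1 * n ^ 2) * 0 = n ^ 2 by ring,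
        show n ^ 2 + (0 * n ^ 2 + 1 * n ^ 2) * 1 = 0 by linear_combination n ^ 2 * h2] at h4
      simpa [p] using h4
    have := memC (n ^ 2) (by rw [map_pow, hn]) h1
    rwa [← pow_mul] at this
  have cn2 : n ^ 2 ∈ C := by
    have h1 := C.sub_mem cn4 cn
    rwa [show n ^ 4 - n = n ^ 2 by linear_combination n * hn3] at h1
  have hεG : Good B P Q.eps := ⟨Q.B_eps_eps, fun r hr => by
    have hrr : σ r = r := by linear_combination tr_of_cond Q.B_eps_eps hr - r * h2
    obtain ⟨_, h⟩ := hspan C c1 cn cn2 r hrr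
    exact h⟩
  have hyG : Good B P y := by
    have := good_map hP (hWε.2 (cond_of_tr hWε.1 hc1)) (good_map hP (hWy.2 (cond_of_tr hWy.1 hc1)) hεG)
    convert this using 1
    simp only [Herm.qrefl_apply, one_mul, map_add, map_smul, smul_eq_mul, Q.B_eps_eps, hye, hye']
    linear_combination (norm := module) -(h2 • Q.eps)
  exact Q.top_of_eps hP hu hεG hn hn0
    (fun h => by rw [h] at hn3; simp at hn3) hyG (by rw [hye]; exact one_ne_zero)

end HModel

end Cfsg.Lib.Linear.SUThree
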