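import Cfsg.Agent.Lib.Linear.SUThree.Core

/-!
# Conjugates of a regular unipotent element of a unitary group with prescribed behaviour
-/

set_option autoImplicit false

namespace Cfsg.Lib.Linear.SUThree

open Module

variable {F V : Type*} [Field F] [AddCommGroup V] [Module F V] {σ : F →+* F} {B : V →ₛₗ[σ] V →ₗ[F] F}

/-- An endomorphism preserving a nondegenerate form, as an isometry. -/
theorem exists_iso_of_preserves [FiniteDimensional F V] (hB : B.Nondegenerate) (L : V →ₗ[F] V)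
    (hL : ∀ a b, B (L a) (L b) = B a b) :
    ∃ g : V ≃ₗ[F] V, g ∈ Herm.iso B ∧ (g : V →ₗ[F] V) = L ∧ ∀ a, g a = L a := by
  have hinj : Function.Injective L := by
    rw [← LinearMap.ker_eq_bot, LinearMap.ker_eq_bot']
    intro a ha
    refine hB.1 a fun b => ?_
    rw [← hL, ha, map_zero, LinearMap.zero_apply]
  exact ⟨LinearEquiv.ofInjectiveEndo L hinj, fun a b => hL a b, LinearMap.ext fun a => rfl, fun a => rfl⟩

/-- The determinant of an isometry has norm one. -/
theorem norm_det [FiniteDimensional F V] (hσ : σ ≠ RingHom.id F) (hσ2 : ∀ a, σ (σ a) = a) (hS : B.IsSymm)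
    (hB : B.Nondegenerate) {g : V ≃ₗ[F] V} (hg : g ∈ Herm.iso B) :
    σ (LinearEquiv.det g : F) * (LinearEquiv.det g : F) = 1 := by
  rw [Herm.iso_eq_qreflGroup hσ hσ2 hS hB] at hg
  induction hg using Subgroup.closure_induction with
  | mem x hx =>
    obtain ⟨w, l, h, rfl⟩ := hx
    rw [Herm.det_qrefl, map_add, map_one, map_mul, hS.eq w w]
    linear_combination (B w w) * h
  | one => simp
  | mul x y _ _ hx hy =>
    rw [map_mul, Units.val_mul, map_mul]
    linear_combination (σ (LinearEquiv.det y : F) * (LinearEquiv.det y : F)) * hx + hy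
  | inv x _ hx =>
    rw [map_inv, Units.val_inv_eq_inv_val, map_inv₀, ← mul_inv, hx, inv_one]

/-- All transvections at an eigenvector. -/
theorem good_of_eigen (hσ2 : ∀ a, σ (σ a) = a) {P : Subgroup (V ≃ₗ[F] V)} (hP : P ≤ Herm.iso B) {h : V ≃ₗ[F] V}
    (hh : h ∈ P) {f : V} (hf : B f f = 0) {l c₀ : F} (hl : h f = l • f) (hc₀ : c₀ ≠ 0)
    (hc : c₀ + σ c₀ + σ c₀ * c₀ * B f f = 0) (hmem : Herm.qrefl f c₀ hc ∈ P)
    (hgen : ∀ r, σ r = r → r ≠ 0 → ∃ k : ℕ, r = (σ l * l) ^ k) : Good B P f := by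
  refine ⟨hf, fun c hcc => ?_⟩
  have hpow : ∀ k : ℕ, ∀ hk : c₀ * (σ l * l) ^ k + σ (c₀ * (σ l * l) ^ k) +
      σ (c₀ * (σ l * l) ^ k) * (c₀ * (σ l * l) ^ k) * B f f = 0, Herm.qrefl f _ hk ∈ P := by
    intro k
    induction k with
    | zero =>
      intro hk
      rw [Herm.qrefl_congr (show c₀ * (σ l * l) ^ 0 = c₀ by simp) hk hc]
      exact hmem
    | succ k ih =>
      intro hk
      have h0 : c₀ * (σ l * l) ^ k + σ (c₀ * (σ l * l) ^ k) +
          σ (c₀ * (σ l * l) ^ k) * (c₀ * (σ l * l) ^ k) * B f f = 0 := by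
        refine cond_of_tr hf ?_
        have := tr_of_cond hf hc
        simp only [map_mul, map_pow, hσ2]
        linear_combination ((σ l * l) ^ k) * this
      have h1 := P.mul_mem (P.mul_mem hh (ih h0)) (P.inv_mem hh)
      have hk' : c₀ * (σ l * l) ^ k + σ (c₀ * (σ l * l) ^ k) +
          σ (c₀ * (σ l * l) ^ k) * (c₀ * (σ l * l) ^ k) * B (h f) (h f) = 0 := by rwa [hP hh f f]
      rw [qrefl_map (hP hh) h0 hk'] at h1
      convert h1 using 1
      refine LinearEquiv.ext fun x => ?_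
      simp only [Herm.qrefl_apply, hl, LinearMap.map_smulₛₗ, LinearMap.smul_apply, smul_eq_mul, smul_smul]
      congr 2
      rw [pow_succ]
      ring
  rcases eq_or_ne c 0 with rfl | hc0
  · have : Herm.qrefl (B := B) f (0 : F) hcc = 1 := LinearEquiv.ext fun x => by simp
    rw [this]; exact P.one_mem
  have hr : σ (c / c₀) = c / c₀ := by
    have t1 : σ c = -c := by linear_combination tr_of_cond hf hcc
    have t2 : σ c₀ = -c₀ := by linear_combination tr_of_cond hf hc
    rw [map_div₀, t1, t2, neg_div_neg_eq]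
  obtain ⟨k, hk⟩ := hgen _ hr (div_ne_zero hc0 hc₀)
  have e : c₀ * (σ l * l) ^ k = c := by rw [← hk]; field_simp
  have hk' : c₀ * (σ l * l) ^ k + σ (c₀ * (σ l * l) ^ k) +
      σ (c₀ * (σ l * l) ^ k) * (c₀ * (σ l * l) ^ k) * B f f = 0 := by rwa [e]
  rw [Herm.qrefl_congr e.symm hcc hk']
  exact hpow k hk'

namespace HModel

variable {m : ℕ} {α : F} (Q : HModel m α B)

include Q in
theorem finite : FiniteDimensional F V := Module.Finite.of_basis Q.basis

/-- The product of `u` and a transvection at `ε` is conjugate to `u`. -/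
theorem exists_seed {c : F} (hc : c + σ c = 0) :
    ∃ g ∈ Herm.iso B, LinearEquiv.det g = 1 ∧
      g * Q.u * g⁻¹ = Q.u * Herm.qrefl Q.eps c (cond_of_tr Q.B_eps_eps hc) := by
  haveI := Q.finite
  have hm := Q.m1
  set j := 2 * m - 1 with hj
  set γ := -(c * α) with hγdef
  have hγ : σ γ - γ = c := by
    rw [hγdef, map_neg, map_mul]
    linear_combination c * Q.trα - σ α * hc
  set x' := Q.e + γ • Q.E j with hx'
  have hx'e : B Q.eps x' = 1 := by
    rw [hx', map_add, map_smul, Q.B_eps_e, Q.B_eps_E, if_neg (by omega), smul_zero, add_zero]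
  set x := Q.lift x' with hx
  obtain ⟨k, hxk⟩ : ∃ k, x = Q.E 0 + γ • Q.E j + k • Q.eps :=
    ⟨-(α * B x' x'), by rw [hx, lift, hx', E_zero]; module⟩
  have hxe : B Q.eps x = 1 := by rw [hx, Q.B_eps_lift, hx'e]
  let M : Module.End F V :=
    (Q.u * Herm.qrefl Q.eps c (cond_of_tr Q.B_eps_eps hc) : V ≃ₗ[F] V).toLinearMap - 1
  have hM : ∀ y, M y = Q.N y + (c * B Q.eps y) • Q.eps := fun y => by
    show Q.u (Herm.qrefl Q.eps c (cond_of_tr Q.B_eps_eps hc) y) - y = _
    rw [Herm.qrefl_apply, map_add, map_smul, u_eps, N_apply]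
    abel
  have hM2 : ∀ k y, (M ^ (k + 2)) y = (Q.N ^ (k + 2)) y := by
    intro k y
    induction k with
    | zero =>
      rw [pow_two, pow_two, Module.End.mul_apply, Module.End.mul_apply, hM, hM y]
      simp [N_eps, B_eps_N, Q.B_eps_eps]
    | succ k ih =>
      rw [pow_succ', Module.End.mul_apply, ih, hM, pow_succ' Q.N (k + 2), Module.End.mul_apply,
        show B Q.eps ((Q.N ^ (k + 2)) y) = 0 by rw [pow_succ', Module.End.mul_apply, B_eps_N]]
      simp
  have hhigh : ∀ i, 2 ≤ i → (M ^ i) x = Q.E i := fun i hi => by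
    obtain ⟨i, rfl⟩ := Nat.exists_eq_add_of_le hi
    rw [add_comm 2 i, hM2, hxk, map_add, map_add, map_smul, map_smul, Npow_E, Npow_E, add_zero,
      Q.E_eq_zero (show 2 * m + 1 ≤ i + 2 + j by omega),
      show (Q.N ^ (i + 2)) Q.eps = 0 by rw [pow_succ, Module.End.mul_apply, N_eps, map_zero]]
    simp
  have hone : M x = Q.E 1 + γ • Q.eps + c • Q.eps := by
    rw [hM, hxe, mul_one, hxk, map_add, map_add, map_smul, map_smul, N_E, N_E, N_eps,
      show j + 1 = 2 * m by omega]
    simp [eps]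
  let L : V →ₗ[F] V := Q.basis.constr F fun a => (M ^ a.val) x
  have hL : ∀ a, L (Q.E a) = (M ^ a) x := fun a => by
    rcases Nat.lt_or_ge a (2 * m + 1) with ha | ha
    · rw [show Q.E a = Q.basis ⟨a, ha⟩ from (Q.basis_apply ⟨a, ha⟩).symm, Basis.constr_basis]
    · rw [hhigh a (by omega), Q.E_eq_zero ha, map_zero]
  have hle : ∀ a b, a ≤ b → B ((M ^ a) x) ((M ^ b) x) = Q.G a b := by
    intro a b hab
    rcases (show 2 ≤ a ∨ a = 0 ∨ a = 1 by omega) with ha | rfl | rfl
    · rw [hhigh a ha, hhigh b (by omega)]; rfl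
    · rw [pow_zero, Module.End.one_apply]
      rcases (show b = 0 ∨ b = 1 ∨ 2 ≤ b by omega) with rfl | rfl | hb
      · rw [pow_zero, Module.End.one_apply, hx, Q.lift_iso hx'e, Q.G_zero (a := 0) (b := 0) (by omega) (by omega)]
      · rw [pow_one, hone, hxk]
        simp only [map_add, LinearMap.map_smulₛₗ, LinearMap.add_apply, LinearMap.smul_apply, smul_eq_mul, map_smul,
          Q.B_eps_eps, Q.B_E_eps, Q.B_eps_E, if_neg (show j ≠ 0 by omega), if_pos rfl, if_neg one_ne_zero, if_true,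
          RingHom.id_apply]
        show _ + σ γ * (Q.G j 1) + _ + _ + _ = Q.G 0 1
        rw [Q.G_top (a := j) (b := 1) (by omega), show ((-1 : F)) ^ j = -1 from
          (show Odd j from ⟨m - 1, by omega⟩).neg_one_pow]
        show Q.G 0 1 + σ γ * (-1) + _ + _ + _ = _
        linear_combination -hγ
      · rw [hhigh b hb, hxk]
        simp only [map_add, LinearMap.map_smulₛₗ, LinearMap.add_apply, LinearMap.smul_apply, smul_eq_mul,
          Q.B_eps_E, if_neg (show b ≠ 0 by omega)]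
        show Q.G 0 b + σ γ * Q.G j b + σ k * 0 = _
        rw [Q.G_high (show 2 * m + 1 ≤ j + b by omega)]
        ring
    · rw [pow_one, hone]
      rcases (show b = 1 ∨ 2 ≤ b by omega) with rfl | hb
      · rw [pow_one, hone]
        simp [Q.B_eps_eps, Q.B_E_eps, Q.B_eps_E, G]
      · rw [hhigh b hb]
        simp [Q.B_eps_E, show b ≠ 0 by omega, G]
  have hpres : ∀ a b, B (L a) (L b) = B a b := by
    have he : ∀ a b : Fin (2 * m + 1), B (L (Q.basis a)) (L (Q.basis b)) = B (Q.basis a) (Q.basis b) := fun a b => by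
      rw [basis_apply, basis_apply, hL, hL]
      rcases le_total a.val b.val with hab | hab
      · exact hle _ _ hab
      · rw [← Q.symm, hle _ _ hab, ← G_swap]; rfl
    intro a b
    conv_lhs => rw [← Q.basis.sum_repr a, ← Q.basis.sum_repr b]
    conv_rhs => rw [← Q.basis.sum_repr a, ← Q.basis.sum_repr b]
    simp only [map_sum, map_smul, LinearMap.map_smulₛₗ, LinearMap.sum_apply, LinearMap.smul_apply, he]
  obtain ⟨g, hg, hgL, hga⟩ := exists_iso_of_preserves Q.hB L hpres
  refine ⟨g, hg, Units.ext ?_, ?_⟩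
  · rw [LinearEquiv.coe_det, hgL, Units.val_one]
    refine Q.det_eq_one_of_tri L fun a ha => ?_
    rw [hL]
    rcases (show 2 ≤ a ∨ a = 0 ∨ a = 1 by omega) with h | rfl | rfl
    · rw [hhigh a h, sub_self]; exact Submodule.zero_mem _
    · rw [pow_zero, Module.End.one_apply, hxk]
      refine ⟨γ • Q.E (j - 1) + k • Q.E (2 * m - 1), ?_⟩
      rw [zero_add, pow_one, map_add, map_smul, map_smul, N_E, N_E, show j - 1 + 1 = j by omega,
        show 2 * m - 1 + 1 = 2 * m by omega]
      show _ + k • Q.eps = _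
      abel
    · rw [pow_one, hone]
      refine ⟨(γ + c) • Q.E (2 * m - 2), ?_⟩
      rw [map_smul, Npow_E, show 1 + 1 + (2 * m - 2) = 2 * m by omega]
      show (γ + c) • Q.eps = _
      module
  · rw [mul_inv_eq_iff_eq_mul]
    refine LinearEquiv.toLinearMap_injective (Q.basis.ext fun a => ?_)
    show g (Q.u (Q.basis a)) = (Q.u * Herm.qrefl Q.eps c (cond_of_tr Q.B_eps_eps hc)) (g (Q.basis a))
    rw [hga, hga, basis_apply, u_E, map_add, hL, hL, pow_succ', Module.End.mul_apply]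
    show _ + ((Q.u * Herm.qrefl Q.eps c (cond_of_tr Q.B_eps_eps hc)) ((M ^ a.val) x) - (M ^ a.val) x) = _
    abel

/-- Three prescribed consecutive vectors, with determinant one. -/
theorem exists_conj_three (hm2 : 2 ≤ m) {x t₀ t₁ t₂ : V} {K : ℕ}
    (hK : (Q.N ^ (K + 2)) x ≠ 0) (hK' : (Q.N ^ (K + 3)) x = 0)
    (hi : ∀ a b c : F, a • t₀ + b • t₁ + c • t₂ = 0 → a = 0 ∧ b = 0 ∧ c = 0)
    (hxx : B x x = 0) (hne : B x (Q.N x) ≠ 0) (h00 : B t₀ t₀ = 0) (h11 : B t₁ t₁ = 0) (h22 : B t₂ t₂ = 0)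
    (h01 : B t₀ t₁ = B x (Q.N x)) (h02 : B t₀ t₂ = 2 * B x (Q.N x) + B x (Q.N (Q.N x)))
    (h12 : B t₁ t₂ = B x (Q.N x)) :
    ∃ g ∈ Herm.iso B, LinearEquiv.det g = 1 ∧ (g * Q.u * g⁻¹) t₀ = t₁ ∧ (g * Q.u * g⁻¹) t₁ = t₂ := by
  classical
  haveI := Q.finite
  set src : Fin 3 → V := ![x, Q.u x, Q.u (Q.u x)] with hsrc
  set tgt : Fin 3 → V := ![t₀, t₁, t₂] with htgt
  have hN : ∀ k, K + 3 ≤ k → (Q.N ^ k) x = 0 := fun k hk => by
    obtain ⟨d, rfl⟩ := Nat.exists_eq_add_of_le hk
    rw [add_comm, pow_add, Module.End.mul_apply, hK', map_zero]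
  have hix : ∀ a b c : F, a • x + b • Q.N x + c • Q.N (Q.N x) = 0 → a = 0 ∧ b = 0 ∧ c = 0 := by
    intro a b c h
    have ap : ∀ k, a • (Q.N ^ k) x + b • (Q.N ^ (k + 1)) x + c • (Q.N ^ (k + 2)) x = 0 := fun k => by
      have h' := congrArg (Q.N ^ k) h
      simpa [pow_succ, Module.End.mul_apply] using h'
    have a0 : a = 0 := by
      have h' := ap (K + 2)
      rw [hN (K + 2 + 1) (by omega), hN (K + 2 + 2) (by omega), smul_zero, smul_zero, add_zero, add_zero,
        smul_eq_zero] at h'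
      exact h'.resolve_right hK
    have b0 : b = 0 := by
      have h' := ap (K + 1)
      rw [hN (K + 1 + 2) (by omega), a0, smul_zero, zero_smul, zero_add, add_zero, smul_eq_zero] at h'
      exact h'.resolve_right hK
    refine ⟨a0, b0, ?_⟩
    have h' := ap K
    rw [a0, b0, zero_smul, zero_smul, zero_add, zero_add, smul_eq_zero] at h'
    exact h'.resolve_right hK
  have isrc : Function.Injective (Fintype.linearCombination F src) := by
    rw [← LinearMap.ker_eq_bot, LinearMap.ker_eq_bot']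
    intro a ha
    simp only [Fintype.linearCombination_apply, Fin.sum_univ_three, hsrc] at ha
    simp only [Matrix.cons_val_zero, Matrix.cons_val_one, Matrix.cons_val, HModel.u_apply, map_add] at ha
    obtain ⟨e0, e1, e2⟩ := hix (a 0 + a 1 + a 2) (a 1 + 2 * a 2) (a 2) (by rw [← ha]; module)
    funext i
    fin_cases i
    · show a 0 = 0; linear_combination e0 - e1 + e2
    · show a 1 = 0; linear_combination e1 - 2 * e2
    · exact e2
  have itgt : Function.Injective (Fintype.linearCombination F tgt) := by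
    rw [← LinearMap.ker_eq_bot, LinearMap.ker_eq_bot']
    intro a ha
    simp only [Fintype.linearCombination_apply, Fin.sum_univ_three, htgt] at ha
    obtain ⟨e0, e1, e2⟩ := hi (a 0) (a 1) (a 2) (by simpa using ha)
    funext i
    fin_cases i
    · exact e0
    · exact e1
    · exact e2
  let X := LinearMap.range (Fintype.linearCombination F src)
  let φ : X →ₗ[F] V :=
    (Fintype.linearCombination F tgt).comp (LinearEquiv.ofInjective _ isrc).symm.toLinearMap
  have hφ : ∀ a, φ ⟨Fintype.linearCombination F src a, ⟨a, rfl⟩⟩ = Fintype.linearCombination F tgt a := fun a => by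
    show Fintype.linearCombination F tgt ((LinearEquiv.ofInjective _ isrc).symm _) = _
    congr 1
    rw [LinearEquiv.symm_apply_eq]
    rfl
  have hB01 : B x (Q.u x) = B x (Q.N x) := by rw [Q.u_apply, map_add, hxx, zero_add]
  have hB02 : B x (Q.u (Q.u x)) = 2 * B x (Q.N x) + B x (Q.N (Q.N x)) := by
    simp only [HModel.u_apply, map_add, hxx]; ring
  have hB12 : B (Q.u x) (Q.u (Q.u x)) = B x (Q.N x) := by rw [Q.u_inv, hB01]
  have hB11 : B (Q.u x) (Q.u x) = 0 := by rw [Q.u_inv, hxx]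
  have hB22 : B (Q.u (Q.u x)) (Q.u (Q.u x)) = 0 := by rw [Q.u_inv, hB11]
  obtain ⟨g, hg, hgx⟩ := Herm.witt Q.hσ Q.hσ2 Q.hS Q.hB X φ
    (itgt.comp (LinearEquiv.ofInjective _ isrc).symm.injective)
    (by
      rintro ⟨_, a, rfl⟩ ⟨_, b, rfl⟩
      rw [hφ, hφ]
      show B (Fintype.linearCombination F tgt a) (Fintype.linearCombination F tgt b) =
        B (Fintype.linearCombination F src a) (Fintype.linearCombination F src b)
      simp only [Fintype.linearCombination_apply, Fin.sum_univ_three, hsrc, htgt, Matrix.cons_val_zero,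
        Matrix.cons_val_one, Matrix.cons_val, map_add, LinearMap.map_smulₛₗ, map_smul, LinearMap.add_apply,
        LinearMap.smul_apply, smul_eq_mul, RingHom.id_apply]
      rw [← Q.symm t₀ t₁, ← Q.symm t₀ t₂, ← Q.symm t₁ t₂, ← Q.symm x (Q.u x), ← Q.symm x (Q.u (Q.u x)),
        ← Q.symm (Q.u x) (Q.u (Q.u x)), h01, h02, h12, h00, h11, h22, hB01, hB02, hB12, hxx, hB11, hB22])
  -- a vector orthogonal to the three, not isotropic
  obtain ⟨w, hwp, hww⟩ : ∃ w, (∀ i, B (src i) w = 0) ∧ B w w ≠ 0 := by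
    by_contra hc
    push_neg at hc
    let Φ : V →ₗ[F] Fin 3 → F := LinearMap.pi fun i => B (src i)
    have hK2 : ∀ z, z ∈ LinearMap.ker Φ ↔ ∀ i, B (src i) z = 0 := fun z => by
      simp [Φ, LinearMap.mem_ker, funext_iff]
    have hiso : ∀ z ∈ LinearMap.ker Φ, ∀ z' ∈ LinearMap.ker Φ, B z z' = 0 := by
      intro z hz z' hz'
      have h0 := Herm.eq_zero_of_self (B := B.domRestrict₁₂ (LinearMap.ker Φ) (LinearMap.ker Φ)) Q.hσ
        ⟨fun a b => Q.hS.eq a b⟩ (fun a => hc _ ((hK2 _).1 a.2))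
      exact LinearMap.congr_fun (LinearMap.congr_fun h0 ⟨z, hz⟩) ⟨z', hz'⟩
    set φ1 := B x (Q.N x)
    set z₀ : V := (-φ1 / σ φ1) • x + (-(2 * φ1 + B x (Q.N (Q.N x))) / φ1) • Q.u x + Q.u (Q.u x)
    have hle : LinearMap.ker Φ ≤ Submodule.span F {z₀} := by
      intro z hz
      have hsp : B z ∈ Submodule.span F (Set.range fun i => B (src i)) := by
        refine mem_span_of_iInf_ker_le_ker ?_
        intro z' hz'
        simp only [Submodule.mem_iInf, LinearMap.mem_ker] at hz'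
        exact hiso z hz z' ((hK2 z').2 hz')
      obtain ⟨c, hc'⟩ := (Submodule.mem_span_range_iff_exists_fun F).1 hsp
      have hz' : z = σ (c 0) • x + σ (c 1) • Q.u x + σ (c 2) • Q.u (Q.u x) := by
        rw [← sub_eq_zero]
        refine Q.hB.1 _ fun y => ?_
        rw [map_sub, LinearMap.sub_apply, ← hc']
        simp [Fin.sum_univ_three, hsrc, Q.hσ2]
      have e0 : B x z = 0 := (hK2 z).1 hz 0
      have e1 : B (Q.u x) z = 0 := (hK2 z).1 hz 1
      rw [hz', map_add, map_add, map_smul, map_smul, map_smul, hxx, hB01, hB02] at e0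
      rw [hz', map_add, map_add, map_smul, map_smul, map_smul, hB11, hB12, ← Q.symm x (Q.u x), hB01] at e1
      simp only [smul_eq_mul] at e0 e1
      refine Submodule.mem_span_singleton.2 ⟨σ (c 2), ?_⟩
      have c0 : σ (c 0) = σ (c 2) * (-φ1 / σ φ1) := by
        have h' : σ φ1 ≠ 0 := (map_ne_zero σ).2 hne
        field_simp
        linear_combination e1
      have c1 : σ (c 1) = σ (c 2) * (-(2 * φ1 + B x (Q.N (Q.N x))) / φ1) := by
        field_simp
        linear_combination e0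
      rw [hz', c0, c1]
      module
    have h1 := Submodule.finrank_mono hle
    have h2 := finrank_span_le_card ({z₀} : Set V) (R := F)
    rw [Set.toFinset_singleton, Finset.card_singleton] at h2
    have h3 := LinearMap.finrank_range_add_finrank_ker Φ
    have h4 := Submodule.finrank_le (LinearMap.range Φ)
    rw [Module.finrank_fin_fun] at h4
    rw [Q.dim] at h3
    omega
  set d : F := (LinearEquiv.det g : F)
  have hd : σ d * d = 1 := norm_det Q.hσ Q.hσ2 Q.hS Q.hB hg
  have hd0 : d ≠ 0 := fun h => by rw [h, mul_zero] at hd; exact zero_ne_one hd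
  have hl : (d⁻¹ - 1) / B w w + σ ((d⁻¹ - 1) / B w w) +
      σ ((d⁻¹ - 1) / B w w) * ((d⁻¹ - 1) / B w w) * B w w = 0 := by
    rw [map_div₀, map_sub, map_inv₀, map_one, Q.symm w w]
    have hσd : σ d = d⁻¹ := eq_inv_of_mul_eq_one_left hd
    rw [hσd, inv_inv]
    field_simp
    ring
  set r := Herm.qrefl w _ hl
  have hgi : ∀ i, (g * r) (src i) = tgt i := fun i => by
    have h0 : B w (src i) = 0 := Q.hS.isRefl _ _ (hwp i)
    rw [LinearEquiv.mul_apply, Herm.qrefl_apply, h0, mul_zero, zero_smul, add_zero]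
    have h1 := hgx ⟨Fintype.linearCombination F src (Pi.single i 1), ⟨_, rfl⟩⟩
    rw [hφ] at h1
    simpa using h1
  have hinv : ∀ i, (g * r)⁻¹ (tgt i) = src i := fun i => by
    rw [← hgi i, ← LinearEquiv.mul_apply, inv_mul_cancel]; rfl
  refine ⟨g * r, mul_mem hg (Herm.qrefl_mem_iso Q.hS _ _ _), Units.ext ?_, ?_, ?_⟩
  · rw [map_mul, Units.val_mul, Herm.det_qrefl, div_mul_cancel₀ _ hww, Units.val_one, add_sub_cancel,
      mul_inv_cancel₀ hd0]
  · rw [LinearEquiv.mul_apply, LinearEquiv.mul_apply (g * r)]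
    show (g * r) (Q.u ((g * r)⁻¹ (tgt 0))) = tgt 1
    rw [hinv, ← hgi 1]
    rfl
  · rw [LinearEquiv.mul_apply, LinearEquiv.mul_apply (g * r)]
    show (g * r) (Q.u ((g * r)⁻¹ (tgt 1))) = tgt 2
    rw [hinv, ← hgi 2]
    rfl

/-- Three conjugates of `u` that generate. -/
def ThreeGen : Prop :=
  ∃ g ∈ Herm.iso B, LinearEquiv.det g = 1 ∧ ∃ h ∈ Herm.iso B, LinearEquiv.det h = 1 ∧ ∀ P ≤ Herm.iso B,
    Q.u ∈ P → g * Q.u * g⁻¹ ∈ P → h * Q.u * h⁻¹ ∈ P → Herm.tvGroup B ≤ P

/-- Two conjugates of `u` that generate. -/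
def TwoGen : Prop :=
  ∃ g ∈ Herm.iso B, LinearEquiv.det g = 1 ∧ ∀ P ≤ Herm.iso B,
    Q.u ∈ P → g * Q.u * g⁻¹ ∈ P → Herm.tvGroup B ≤ P

end HModel

end Cfsg.Lib.Linear.SUThree
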