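import Cfsg.Agent.Lib.Linear.SUThree.Exist

/-!
# From a generating design to matrices of the special unitary group
-/

set_option autoImplicit false

namespace Cfsg.Lib.Linear.SUThree

open Module Matrix Cfsg.Lib.Linear

variable {F : Type*} [Field F] [Fintype F] {q m : ℕ} {hF : Fintype.card F = q ^ 2} {α : F}

/-- The regular unipotent element of a model as a matrix, with the lifting of isometries. -/
theorem exists_lift (hdim : 4 ≤ 2 * m + 1 ∨ (3 ≤ 2 * m + 1 ∧ ∃ y z : F, y ≠ 0 ∧ z ≠ 0 ∧ y ≠ z ∧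
      y + Herm.frob hF y = 0 ∧ z + Herm.frob hF z = 0)) (Q : HModel m α (Herm.hB hF (2 * m + 1))) :
    (∀ x ∈ Herm.iso (Herm.hB hF (2 * m + 1)), LinearEquiv.det x = 1 →
      ∃ A, Herm.suToLin (2 * m + 1) F q A = x) ∧
    ∃ u : ↥(Cfsg.SU (2 * m + 1) F q), Herm.suToLin (2 * m + 1) F q u = Q.u ∧
      IsNilpotent (((u : Matrix.SpecialLinearGroup (Fin (2 * m + 1)) F) : Matrix (Fin (2 * m + 1)) (Fin (2 * m + 1)) F) - 1) ∧
      (((u : Matrix.SpecialLinearGroup (Fin (2 * m + 1)) F) : Matrix (Fin (2 * m + 1)) (Fin (2 * m + 1)) F) - 1) ^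
        (2 * m + 1 - 1) ≠ 0 := by
  have hmem : ∀ x ∈ Herm.iso (Herm.hB hF (2 * m + 1)), LinearEquiv.det x = 1 →
      ∃ A, Herm.suToLin (2 * m + 1) F q A = x := by
    intro x h1 h2
    have : x ∈ (Herm.suToLin (2 * m + 1) F q).range := by
      rw [Herm.suToLin_range hF hdim]
      exact (Herm.mem_tvGroup_iff (Herm.frob_ne_id hF) (Herm.frob_frob hF) (Herm.hB_isSymm hF _)
        (Herm.hB_nondegenerate hF _) (by rw [Module.finrank_fin_fun]; exact hdim) x).2 ⟨h1, h2⟩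
    exact this
  obtain ⟨u, hu⟩ := hmem Q.u Q.hu Q.det_u
  have hlin : Matrix.toLin' (((u : Matrix.SpecialLinearGroup (Fin (2 * m + 1)) F) :
      Matrix (Fin (2 * m + 1)) (Fin (2 * m + 1)) F) - 1) = Q.N := by
    refine LinearMap.ext fun x => ?_
    rw [Matrix.toLin'_apply, Matrix.sub_mulVec, Matrix.one_mulVec, HModel.N_apply, ← hu]
    rfl
  refine ⟨hmem, u, hu, ⟨2 * m + 1, Matrix.toLin'.injective ?_⟩, fun h0 => ?_⟩
  · rw [Matrix.toLin'_pow, hlin, Q.N_pow le_rfl, map_zero]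
  · have h1 := congrArg Matrix.toLin' h0
    rw [Matrix.toLin'_pow, hlin, map_zero, Nat.add_sub_cancel] at h1
    exact Q.eps_ne (LinearMap.congr_fun h1 Q.e)

/-- Two conjugates generate the matrix group. -/
theorem exists_SU_two (hdim : 4 ≤ 2 * m + 1 ∨ (3 ≤ 2 * m + 1 ∧ ∃ y z : F, y ≠ 0 ∧ z ≠ 0 ∧ y ≠ z ∧
      y + Herm.frob hF y = 0 ∧ z + Herm.frob hF z = 0)) (Q : HModel m α (Herm.hB hF (2 * m + 1)))
    (h : Q.TwoGen) :
    ∃ u g : ↥(Cfsg.SU (2 * m + 1) F q),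
      (IsNilpotent (((u : Matrix.SpecialLinearGroup (Fin (2 * m + 1)) F) : Matrix (Fin (2 * m + 1)) (Fin (2 * m + 1)) F) - 1) ∧
      (((u : Matrix.SpecialLinearGroup (Fin (2 * m + 1)) F) : Matrix (Fin (2 * m + 1)) (Fin (2 * m + 1)) F) - 1) ^
        (2 * m + 1 - 1) ≠ 0) ∧
      Subgroup.closure ({u, g * u * g⁻¹} : Set ↥(Cfsg.SU (2 * m + 1) F q)) = ⊤ := by
  obtain ⟨hmem, u', hu', hnil⟩ := exists_lift hdim Q
  obtain ⟨g, hg, hgd, hgen⟩ := h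
  obtain ⟨g', hg'⟩ := hmem g hg hgd
  refine ⟨u', g', hnil, (Subgroup.eq_top_iff' _).2 fun A => ?_⟩
  set ψ := Herm.suToLin (2 * m + 1) F q
  set S : Set ↥(Cfsg.SU (2 * m + 1) F q) := {u', g' * u' * g'⁻¹}
  have hran : ψ.range = Herm.tvGroup (Herm.hB hF (2 * m + 1)) := Herm.suToLin_range hF hdim
  have hle : (Subgroup.closure S).map ψ ≤ Herm.iso (Herm.hB hF (2 * m + 1)) := by
    rintro _ ⟨z, -, rfl⟩
    exact Herm.tvGroup_le_iso (Herm.hB_isSymm hF _) (hran ▸ ⟨z, rfl⟩)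
  have hP := hgen _ hle ⟨u', Subgroup.subset_closure (by simp [S]), hu'⟩
    ⟨g' * u' * g'⁻¹, Subgroup.subset_closure (by simp [S]), by simp [hu', hg']⟩
  obtain ⟨z, hz, hze⟩ := hP (show ψ A ∈ Herm.tvGroup _ by rw [← hran]; exact ⟨A, rfl⟩)
  rwa [← Herm.suToLin_injective _ hze]

/-- Three conjugates generate the matrix group. -/
theorem exists_SU_three (hdim : 4 ≤ 2 * m + 1 ∨ (3 ≤ 2 * m + 1 ∧ ∃ y z : F, y ≠ 0 ∧ z ≠ 0 ∧ y ≠ z ∧
      y + Herm.frob hF y = 0 ∧ z + Herm.frob hF z = 0)) (Q : HModel m α (Herm.hB hF (2 * m + 1)))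
    (h : Q.ThreeGen) :
    ∃ u g h : ↥(Cfsg.SU (2 * m + 1) F q),
      (IsNilpotent (((u : Matrix.SpecialLinearGroup (Fin (2 * m + 1)) F) : Matrix (Fin (2 * m + 1)) (Fin (2 * m + 1)) F) - 1) ∧
      (((u : Matrix.SpecialLinearGroup (Fin (2 * m + 1)) F) : Matrix (Fin (2 * m + 1)) (Fin (2 * m + 1)) F) - 1) ^
        (2 * m + 1 - 1) ≠ 0) ∧
      Subgroup.closure ({u, g * u * g⁻¹, h * u * h⁻¹} : Set ↥(Cfsg.SU (2 * m + 1) F q)) = ⊤ := by
  obtain ⟨hmem, u', hu', hnil⟩ := exists_lift hdim Q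
  obtain ⟨g, hg, hgd, k, hk, hkd, hgen⟩ := h
  obtain ⟨g', hg'⟩ := hmem g hg hgd
  obtain ⟨k', hk'⟩ := hmem k hk hkd
  refine ⟨u', g', k', hnil, (Subgroup.eq_top_iff' _).2 fun A => ?_⟩
  set ψ := Herm.suToLin (2 * m + 1) F q
  set S : Set ↥(Cfsg.SU (2 * m + 1) F q) := {u', g' * u' * g'⁻¹, k' * u' * k'⁻¹}
  have hran : ψ.range = Herm.tvGroup (Herm.hB hF (2 * m + 1)) := Herm.suToLin_range hF hdim
  have hle : (Subgroup.closure S).map ψ ≤ Herm.iso (Herm.hB hF (2 * m + 1)) := by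
    rintro _ ⟨z, -, rfl⟩
    exact Herm.tvGroup_le_iso (Herm.hB_isSymm hF _) (hran ▸ ⟨z, rfl⟩)
  have hP := hgen _ hle ⟨u', Subgroup.subset_closure (by simp [S]), hu'⟩
    ⟨g' * u' * g'⁻¹, Subgroup.subset_closure (by simp [S]), by simp [hu', hg']⟩
    ⟨k' * u' * k'⁻¹, Subgroup.subset_closure (by simp [S]), by simp [hu', hk']⟩
  obtain ⟨z, hz, hze⟩ := hP (show ψ A ∈ Herm.tvGroup _ by rw [← hran]; exact ⟨A, rfl⟩)
  rwa [← Herm.suToLin_injective _ hze]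

end Cfsg.Lib.Linear.SUThree
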